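import Cfsg.Agent.JankoUnique.Local
import Cfsg.Agent.SylowToolkit.Transfer
import Cfsg.Agent.Blocks.PrimeGram.BlockEquation

/-!
# An element of order 3 centralising an element of order 5
-/

set_option autoImplicit false
set_option linter.style.haveILetI false

namespace CfsgLib.JankoUnique

open Subgroup CfsgLib.SylowToolkit

universe u

variable {G : Type u} [Group G] [IsSimpleGroup G]

namespace Marked

variable (M : Marked G) (hG : Nat.card G = 175560)

include M hG

omit [IsSimpleGroup G] in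
theorem orderOf_dvd_120 {g : G} (h : g * M.ψ tQ = M.ψ tQ * g) : orderOf g ∣ 120 := by
  obtain ⟨q, rfl⟩ := M.toCent.mem_centralizer_iff'.mp h
  rw [orderOf_injective _ M.inj]
  have h1 := orderOf_dvd_natCard q
  rwa [Nat.card_eq_fintype_card, show Fintype.card Q5 = 120 by
    rw [Fintype.card_prod, Fintype.card_multiplicative, ZMod.card, ← Nat.card_eq_fintype_card,
      nat_card_alternatingGroup, Nat.card_eq_fintype_card, Fintype.card_fin]; rfl] at h1

omit [IsSimpleGroup G] in
/-- an element of prime order not dividing 120 has centraliser of odd order -/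
theorem odd_centralizer {q : ℕ} (hq : q.Prime) (hq' : ¬ q ∣ 120) {z : G} (hz : orderOf z = q) :
    ¬ 2 ∣ Nat.card (centralizer (zpowers z : Set G)) := by
  haveI := Cent.finite_G hG
  haveI : Fact (Nat.Prime 2) := ⟨Nat.prime_two⟩
  intro h
  obtain ⟨⟨s, hsC⟩, hs⟩ := exists_prime_orderOf_dvd_card' 2 h
  rw [Subgroup.orderOf_mk] at hs
  obtain ⟨g, rfl⟩ := M.exists_conj_t hG hs
  have hc : z * (g * M.ψ tQ * g⁻¹) = (g * M.ψ tQ * g⁻¹) * z := mem_centralizer_iff.mp hsC z (mem_zpowers z)
  have h1 : (g⁻¹ * z * g) * M.ψ tQ = M.ψ tQ * (g⁻¹ * z * g) := by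
    calc (g⁻¹ * z * g) * M.ψ tQ = g⁻¹ * (z * (g * M.ψ tQ * g⁻¹)) * g := by group
      _ = g⁻¹ * ((g * M.ψ tQ * g⁻¹) * z) * g := by rw [hc]
      _ = _ := by group
  have h2 := M.orderOf_dvd_120 hG h1
  have h3 := MulEquiv.orderOf_eq (MulAut.conj g⁻¹) z
  rw [MulAut.conj_apply, inv_inv] at h3
  rw [h3, hz] at h2
  exact hq' h2

/-- the centraliser of `ψ xQ` has order 30 -/
theorem card_centralizer_x : Nat.card (centralizer ({M.ψ xQ} : Set G)) = 30 := by
  classical
  haveI := Cent.finite_G hG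
  haveI h2f : Fact (Nat.Prime 2) := ⟨Nat.prime_two⟩
  haveI h5f : Fact (Nat.Prime 5) := ⟨by norm_num⟩
  have hx : orderOf (M.ψ xQ) = 5 := by
    rw [orderOf_injective _ M.inj]
    exact orderOf_eq_prime bQ_pow.2.2.2.2.1 bQ_pow.2.2.2.2.2.1
  have htx : M.ψ tQ * M.ψ xQ = M.ψ xQ * M.ψ tQ := by rw [← map_mul, ← map_mul]; congr 1
  set x := M.ψ xQ
  set C := centralizer ({x} : Set G) with hC
  have hxC : x ∈ C := mem_centralizer_singleton_iff.mpr rfl
  have htC : M.ψ tQ ∈ C := mem_centralizer_singleton_iff.mpr htx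
  have htt : orderOf (M.ψ tQ) = 2 := by
    rw [orderOf_injective _ M.inj]
    exact orderOf_eq_prime bQ_pow.2.2.2.1 (fun h => absurd (congrArg (fun q : Q5 => Multiplicative.toAdd q.1) h) (by simp [tQ]))
  -- the Sylow 2-subgroups of `C` have order at most 2
  have h4 : ¬ 4 ∣ Nat.card C := by
    intro h4
    have hz : IsPGroup 2 (zpowers (⟨M.ψ tQ, htC⟩ : C)) :=
      IsPGroup.of_card (n := 1) (by rw [Nat.card_zpowers, Subgroup.orderOf_mk, htt, pow_one])
    obtain ⟨Q, hQ⟩ := hz.exists_le_sylow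
    set Q' := (Q : Subgroup C).map C.subtype with hQ'
    obtain ⟨R, hR⟩ := (Q.isPGroup'.map C.subtype).exists_le_sylow
    obtain ⟨P, hP⟩ := M.toCent.exists_sylow hG
    obtain ⟨g, hg⟩ := MulAction.exists_smul_eq G R P
    have hcomm : ∀ a ∈ Q', a * M.ψ tQ = M.ψ tQ * a := by
      intro a ha
      have hm : ∀ w ∈ Q', g * w * g⁻¹ ∈ M.toCent.S := fun w hw => by
        rw [← hP, ← hg]
        exact Subgroup.smul_mem_pointwise_smul w (MulAut.conj g) (R : Subgroup G) (hR hw)
      have ht' : M.ψ tQ ∈ Q' := ⟨_, hQ (mem_zpowers _), rfl⟩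
      have h1 := congrArg Subtype.val (M.toCent.S_comm.is_comm.comm ⟨_, hm a ha⟩ ⟨_, hm _ ht'⟩)
      change (g * a * g⁻¹) * (g * M.ψ tQ * g⁻¹) = (g * M.ψ tQ * g⁻¹) * (g * a * g⁻¹) at h1
      calc a * M.ψ tQ = g⁻¹ * ((g * a * g⁻¹) * (g * M.ψ tQ * g⁻¹)) * g := by group
        _ = g⁻¹ * ((g * M.ψ tQ * g⁻¹) * (g * a * g⁻¹)) * g := by rw [h1]
        _ = M.ψ tQ * a := by group
    have hsub : (Q' : Set G) ⊆ {1, M.ψ tQ} := by
      intro a ha
      obtain ⟨q, rfl⟩ := M.toCent.mem_centralizer_iff'.mp (hcomm a ha)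
      have hqx : q * xQ = xQ * q := by
        have h1 : M.ψ q * x = x * M.ψ q := mem_centralizer_singleton_iff.mp (map_subtype_le _ ha)
        rw [← map_mul, ← map_mul] at h1
        exact M.inj h1
      obtain ⟨j, hj⟩ := (Q.isPGroup'.map C.subtype) ⟨_, ha⟩
      have hj' : q ^ 2 ^ j = 1 := M.inj (by rw [map_pow, map_one]; exact congrArg Subtype.val hj)
      have ho : orderOf q ∣ 2 := by
        have h1 := orderOf_dvd_of_pow_eq_one hj'
        have h2 := orderOf_dvd_of_pow_eq_one (centralizer_xQ q hqx).1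
        have h3 := Nat.dvd_gcd h1 h2
        rcases Nat.eq_zero_or_pos j with rfl | hj0
        · exact h3.trans (by norm_num)
        · rw [show (10 : ℕ) = 2 * 5 from rfl, Nat.Coprime.gcd_mul_right_cancel_right 2
            ((Nat.coprime_primes (by norm_num) Nat.prime_two).mpr (by norm_num) |>.pow_right j),
            Nat.gcd_eq_right (dvd_pow_self 2 hj0.ne')] at h3
          exact h3
      rcases centralizer_xQ_two q hqx (orderOf_dvd_iff_pow_eq_one.mp ho) with rfl | rfl
      · exact Set.mem_insert_iff.mpr (.inl (map_one _))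
      · exact Set.mem_insert_iff.mpr (.inr rfl)
    have hcard : Nat.card (Q : Subgroup C) ≤ 2 := by
      rw [← card_subtype C Q]
      exact (Nat.card_mono (Set.toFinite _) hsub).trans
        (by rw [Nat.card_coe_set_eq]; exact (Set.ncard_insert_le _ _).trans (by rw [Set.ncard_singleton]))
    have h9 : 2 ≤ (Nat.card C).factorization 2 :=
      (Nat.prime_two.pow_dvd_iff_le_factorization Nat.card_pos.ne').mp h4
    rw [Q.card_eq_multiplicity] at hcard
    have := Nat.pow_le_pow_right (show 0 < 2 by norm_num) h9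
    omega
  -- the normaliser
  have hu : M.ψ uQ * x * (M.ψ uQ)⁻¹ = x⁻¹ := by rw [← map_inv, ← map_mul, ← map_mul, uQ_facts.1, map_inv]
  set N := normalizer (zpowers x : Set G) with hN
  have hCeq : centralizer (zpowers x : Set G) = C := by rw [zpowers_eq_closure, centralizer_closure]
  have hCN : C ≤ N := hCeq ▸ centralizer_le_normalizer _
  have huN : M.ψ uQ ∈ N := by
    rw [hN, mem_normalizer_iff]
    intro w
    constructor
    · intro hw
      obtain ⟨i, rfl⟩ := mem_zpowers_iff.mp hw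
      rw [← conj_zpow, hu]
      exact zpow_mem (inv_mem (mem_zpowers x)) i
    · intro hw
      obtain ⟨i, hi⟩ := mem_zpowers_iff.mp hw
      refine mem_zpowers_iff.mpr ⟨-i, ?_⟩
      have h1 : M.ψ uQ * x ^ (-i) * (M.ψ uQ)⁻¹ = M.ψ uQ * w * (M.ψ uQ)⁻¹ := by
        rw [← hi, ← conj_zpow, hu]; group
      exact mul_left_cancel (mul_right_cancel h1)
  have hrel : C.relIndex N = 2 := by
    rw [relIndex, index_eq_two_iff]
    refine ⟨⟨_, huN⟩, fun g => ?_⟩
    obtain ⟨g, hgN⟩ := g
    simp only [mem_subgroupOf]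
    show Xor (g * M.ψ uQ ∈ C) (g ∈ C)
    obtain ⟨j, hj⟩ := (isOfFinOrder_of_finite x).mem_zpowers_iff_mem_range_orderOf.mp
      ((mem_normalizer_iff.mp hgN x).mp (mem_zpowers x)) |> Finset.mem_image.mp
    have hj5 : j < 5 := hx ▸ Finset.mem_range.mp hj.1
    replace hj : g * x * g⁻¹ = x ^ j := hj.2.symm
    have hpow : ∀ i : ℕ, g ^ i * x * (g ^ i)⁻¹ = x ^ (j ^ i) := by
      intro i
      induction i with
      | zero => simp
      | succ i ih =>
        calc g ^ (i + 1) * x * (g ^ (i + 1))⁻¹ = g ^ i * (g * x * g⁻¹) * (g ^ i)⁻¹ := by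
              rw [pow_succ]; group
          _ = x ^ (j ^ (i + 1)) := by rw [hj, ← conj_pow, ih, ← pow_mul, ← pow_succ]
    obtain ⟨a, o, ho, hgo⟩ := Nat.exists_eq_two_pow_mul_odd (orderOf_pos g).ne'
    have hg2o : g ^ (2 * o) = 1 := by
      obtain ⟨P, hP⟩ := M.toCent.exists_sylow hG
      have hp : IsPGroup 2 (zpowers (g ^ o)) := by
        refine IsPGroup.of_card (n := a) ?_
        rw [Nat.card_zpowers, orderOf_pow' g (by rintro rfl; simp at ho), hgo,
          Nat.gcd_eq_right (dvd_mul_left _ _), Nat.mul_div_cancel _ ho.pos]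
      obtain ⟨R, hR⟩ := hp.exists_le_sylow
      obtain ⟨c, hc⟩ := MulAction.exists_smul_eq G R P
      have hm : c * g ^ o * c⁻¹ ∈ M.toCent.S := by
        rw [← hP, ← hc]
        exact Subgroup.smul_mem_pointwise_smul _ (MulAut.conj c) (R : Subgroup G) (hR (mem_zpowers _))
      obtain ⟨k, hk⟩ := M.toCent.mem_S.mp hm
      have h1 : (c * g ^ o * c⁻¹) ^ 2 = 1 := by
        rw [hk, ← map_pow, pow_two, sl_mul, lmul_self, sl_zero, map_one]
      rw [conj_pow, conj_eq_one_iff, ← pow_mul] at h1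
      rw [mul_comm]; exact h1
    have hj2 : x ^ (j ^ (2 * o)) = x ^ 1 := by rw [← hpow, hg2o, pow_one]; group
    rw [pow_eq_pow_iff_modEq, hx, Nat.ModEq] at hj2
    have hj14 : j = 1 ∨ j = 4 := by
      obtain ⟨w, rfl⟩ := ho
      rw [show 2 * (2 * w + 1) = 4 * w + 2 by ring, pow_add, pow_mul, Nat.mul_mod, Nat.pow_mod] at hj2
      have hj4 : ∀ j < 5, j = 0 ∨ j ^ 4 % 5 = 1 := by decide
      rcases hj4 j hj5 with rfl | h
      · simp at hj2
      · rw [h, one_pow] at hj2
        have : ∀ j < 5, 1 * (j ^ 2 % 5) % 5 = 1 % 5 → j = 1 ∨ j = 4 := by decide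
        exact this j hj5 (by simpa using hj2)
    have hxinv : x ^ 4 = x⁻¹ := eq_inv_of_mul_eq_one_left (by rw [← pow_succ, show 4 + 1 = orderOf x from hx.symm, pow_orderOf_eq_one])
    have hne : x⁻¹ ≠ x := fun h => by
      have h1 : x ^ 2 = 1 := by rw [pow_two]; nth_rewrite 1 [← h]; exact inv_mul_cancel x
      have := orderOf_dvd_of_pow_eq_one h1
      rw [hx] at this; norm_num at this
    rcases hj14 with rfl | rfl
    · rw [pow_one, mul_inv_eq_iff_eq_mul] at hj
      refine .inr ⟨mem_centralizer_singleton_iff.mpr hj, fun h => hne ?_⟩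
      have h1 : g * M.ψ uQ * x * (g * M.ψ uQ)⁻¹ = x :=
        mul_inv_eq_iff_eq_mul.mpr (mem_centralizer_singleton_iff.mp h)
      calc x⁻¹ = (g * x * g⁻¹)⁻¹ := by rw [mul_inv_eq_iff_eq_mul.mpr hj]
        _ = g * (M.ψ uQ * x * (M.ψ uQ)⁻¹) * g⁻¹ := by rw [hu]; group
        _ = g * M.ψ uQ * x * (g * M.ψ uQ)⁻¹ := by group
        _ = x := h1
    · rw [hxinv] at hj
      refine .inl ⟨mem_centralizer_singleton_iff.mpr (mul_inv_eq_iff_eq_mul.mp ?_), fun h => hne ?_⟩
      · calc g * M.ψ uQ * x * (g * M.ψ uQ)⁻¹ = g * (M.ψ uQ * x * (M.ψ uQ)⁻¹) * g⁻¹ := by group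
          _ = (g * x * g⁻¹)⁻¹ := by rw [hu]; group
          _ = x := by rw [hj, inv_inv]
      · rw [← hj]; exact mul_inv_eq_iff_eq_mul.mpr (mem_centralizer_singleton_iff.mp h)
  have hNC : Nat.card N = 2 * Nat.card C := by
    have h1 := CfsgLib.PrimeGram.relIndex_mul_centralizer (zpowers x)
    rw [hCeq, ← hN, hrel] at h1
    exact h1.symm
  obtain ⟨R, hR⟩ : ∃ R : Sylow 5 G, (R : Subgroup G) = zpowers x := by
    obtain ⟨R, hR⟩ := (IsPGroup.of_card (p := 5) (n := 1) (show Nat.card (zpowers x) = 5 ^ 1 by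
      rw [Nat.card_zpowers, hx, pow_one])).exists_le_sylow
    exact ⟨R, (eq_of_le_of_card_ge hR (by rw [card_sylow_subgroup_eq (k := 1) (m := 35112)
      (by rw [hG]; norm_num) (by norm_num) R, Nat.card_zpowers, hx, pow_one])).symm⟩
  have hn := card_normalizer_mul R
  rw [hR, ← hN, hNC, hG] at hn
  have hn5 : Nat.card (Sylow 5 G) % 5 = 1 := card_sylow_mod
  obtain ⟨m, hm⟩ : 10 ∣ Nat.card C := by
    refine Nat.Coprime.mul_dvd_of_dvd_of_dvd (show Nat.Coprime 2 5 by norm_num) ?_ ?_
    · have := orderOf_dvd_natCard (⟨_, htC⟩ : C); rwa [Subgroup.orderOf_mk, htt] at this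
    · have := orderOf_dvd_natCard (⟨_, hxC⟩ : C); rwa [Subgroup.orderOf_mk, hx] at this
  rw [hm] at hn h4
  generalize hnn : Nat.card (Sylow 5 G) = n at hn hn5
  have hmn : n * m = 8778 := by
    have : 20 * (n * m) = 20 * 8778 := by rw [show 20 * (n * m) = 2 * (10 * m) * n by ring, hn]
    omega
  have hm2 : m % 2 = 1 := by
    rcases Nat.even_or_odd m with ⟨w, rfl⟩ | h
    · exact absurd ⟨5 * w, by ring⟩ h4
    · exact Nat.odd_iff.mp h
  have hml : m ∈ [3, 33, 133, 1463] := by
    have hmem : m ∈ Nat.divisors 8778 := Nat.mem_divisors.mpr ⟨⟨n, by rw [← hmn, mul_comm]⟩, by norm_num⟩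
    have hnm : n = 8778 / m := by rw [← hmn, Nat.mul_div_cancel _ (by omega)]
    subst hnm
    have key : ∀ m ∈ Nat.divisors 8778, m % 2 = 1 → 8778 / m % 5 = 1 → m ∈ [3, 33, 133, 1463] := by
      decide +kernel
    exact key m hmem hm2 hn5
  -- no element of order 19, and none of order 11
  have hz : ∀ q : ℕ, q.Prime → (q = 11 ∧ m = 33) ∨ (q = 19 ∧ 19 ∣ m) → False := by
    intro q hq hcase
    haveI := Fact.mk hq
    obtain ⟨⟨z, hzC⟩, hz⟩ := exists_prime_orderOf_dvd_card' (G := C) q (by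
      rw [hm]
      rcases hcase with ⟨rfl, rfl⟩ | ⟨rfl, h⟩
      · norm_num
      · exact h.mul_left 10)
    rw [Subgroup.orderOf_mk] at hz
    have hq120 : ¬ q ∣ 120 := by rcases hcase with ⟨rfl, -⟩ | ⟨rfl, -⟩ <;> norm_num
    have hodd := M.odd_centralizer hG hq hq120 hz
    have h330 : q = 11 → Nat.card C ∣ Nat.card (normalizer (zpowers z : Set G)) := by
      intro h11
      subst h11
      have hm33 : m = 33 := by
        rcases hcase with ⟨-, h⟩ | ⟨h, -⟩
        · exact h
        · norm_num at h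
      have hC330 : Nat.card C = 11 ^ 1 * 30 := by rw [hm, hm33]; norm_num
      obtain ⟨RC, hRC⟩ := (IsPGroup.of_card (p := 11) (n := 1) (show Nat.card (zpowers (⟨z, hzC⟩ : C)) = 11 ^ 1 by
        rw [Nat.card_zpowers, Subgroup.orderOf_mk, hz, pow_one])).exists_le_sylow
      have hRC' : (RC : Subgroup C) = zpowers (⟨z, hzC⟩ : C) := (eq_of_le_of_card_ge hRC (by
        rw [card_sylow_subgroup_eq hC330 (by norm_num) RC, Nat.card_zpowers, Subgroup.orderOf_mk, hz,
          pow_one])).symm
      have h1 : Nat.card (Sylow 11 C) = 1 := by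
        have hdvd := card_sylow_dvd (p := 11) hC330 (by norm_num)
        have hmod : Nat.card (Sylow 11 C) % 11 = 1 := card_sylow_mod
        have key : ∀ n ∈ Nat.divisors 30, n % 11 = 1 → n = 1 := by decide +kernel
        exact key _ (Nat.mem_divisors.mpr ⟨hdvd, by norm_num⟩) hmod
      have hnorm := sylow_normal_of_card_eq_one h1 RC
      rw [hRC'] at hnorm
      refine card_dvd_of_le fun c hc => ?_
      rw [mem_normalizer_iff_map_conj_eq]
      have h2 := hnorm.conj_mem _ (mem_zpowers (⟨z, hzC⟩ : C)) ⟨c, hc⟩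
      obtain ⟨i, hi⟩ := mem_zpowers_iff.mp h2
      refine eq_of_le_of_card_ge ?_ (le_of_eq (Nat.card_congr (equivMapOfInjective (zpowers z) _ (MulAut.conj c).injective).toEquiv))
      rw [map_le_iff_le_comap, zpowers_le, mem_comap]
      exact mem_zpowers_iff.mpr ⟨i, congrArg Subtype.val hi⟩
    obtain ⟨Rz, hRz⟩ := (IsPGroup.of_card (p := q) (n := 1) (show Nat.card (zpowers z) = q ^ 1 by
      rw [Nat.card_zpowers, hz, pow_one])).exists_le_sylow
    have hcq : Nat.card (Rz : Subgroup G) = q := by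
      rcases hcase with ⟨rfl, -⟩ | ⟨rfl, -⟩
      · exact card_sylow_subgroup_eq (k := 1) (m := 15960) (by rw [hG]; norm_num) (by norm_num) Rz
      · exact card_sylow_subgroup_eq (k := 1) (m := 9240) (by rw [hG]; norm_num) (by norm_num) Rz
    have hRz' : (Rz : Subgroup G) = zpowers z := (eq_of_le_of_card_ge hRz (by rw [hcq, Nat.card_zpowers, hz])).symm
    have hnz := card_normalizer_mul Rz
    rw [hRz', hG] at hnz
    have hmod : Nat.card (Sylow q G) % q = 1 := card_sylow_mod
    have hCz : C ⊓ centralizer (zpowers z : Set G) ≤ centralizer (zpowers z : Set G) := inf_le_right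
    have hxz : x ∈ centralizer (zpowers z : Set G) := by
      rw [zpowers_eq_closure, centralizer_closure, mem_centralizer_singleton_iff]
      exact (mem_centralizer_singleton_iff.mp hzC).symm
    have h5N : 5 ∣ Nat.card (normalizer (zpowers z : Set G)) := by
      have := orderOf_dvd_natCard (⟨x, centralizer_le_normalizer _ hxz⟩ : normalizer (zpowers z : Set G))
      rwa [Subgroup.orderOf_mk, hx] at this
    have hqN : q ∣ Nat.card (normalizer (zpowers z : Set G)) := by
      have := orderOf_dvd_natCard (⟨z, le_normalizer (mem_zpowers z)⟩ : normalizer (zpowers z : Set G))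
      rwa [Subgroup.orderOf_mk, hz] at this
    have hNtop : normalizer (zpowers z : Set G) ≠ ⊤ := by
      intro h
      rcases IsSimpleGroup.eq_bot_or_eq_top_of_normal _ (normalizer_eq_top_iff.mp h) with e | e
      · rw [zpowers_eq_bot] at e; rw [e, orderOf_one] at hz; exact hq.one_lt.ne hz
      · have := congrArg (fun K : Subgroup G => Nat.card K) e
        simp only [Nat.card_zpowers, hz, card_top, hG] at this
        rcases hcase with ⟨rfl, -⟩ | ⟨rfl, -⟩ <;> norm_num at this
    have hlt : Nat.card (normalizer (zpowers z : Set G)) < 175560 := by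
      rw [← hG]
      exact lt_of_le_of_ne (card_le_card_group _) fun e => hNtop (eq_top_of_card_eq _ e)
    have hrelz : (centralizer (zpowers z : Set G)).relIndex (normalizer (zpowers z : Set G)) ∣ q - 1 := by
      have h1 := relIndex_centralizer_dvd_sub_one Rz hcq
      rwa [hRz'] at h1
    have hmulz := CfsgLib.PrimeGram.relIndex_mul_centralizer (zpowers z)
    generalize Nat.card (normalizer (zpowers z : Set G)) = V at hnz h5N hqN hlt hmulz h330
    generalize Nat.card (Sylow q G) = nq at hnz hmod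
    generalize (centralizer (zpowers z : Set G)).relIndex (normalizer (zpowers z : Set G)) = e at hrelz hmulz
    generalize Nat.card (centralizer (zpowers z : Set G)) = c at hodd hmulz
    rcases hcase with ⟨rfl, rfl⟩ | ⟨rfl, -⟩
    · have hV : V = 1320 := by
        have h1 := h330 rfl
        rw [hm] at h1
        obtain ⟨w, rfl⟩ : 330 ∣ V := h1
        have h2 : w * nq = 532 := Nat.eq_of_mul_eq_mul_left (show 0 < 330 by norm_num)
          (by rw [← mul_assoc, hnz])
        have hmem : w ∈ Nat.divisors 532 := Nat.mem_divisors.mpr ⟨⟨nq, h2.symm⟩, by norm_num⟩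
        have key : ∀ w ∈ Nat.divisors 532, 330 * w < 175560 → 532 / w % 11 = 1 → w = 4 := by
          decide +kernel
        rw [key w hmem hlt (by rw [← h2, Nat.mul_div_cancel_left _ (Nat.pos_of_mem_divisors hmem)]; exact hmod)]
      subst hV
      have he : e ≤ 10 := Nat.le_of_dvd (by norm_num) hrelz
      interval_cases e <;> omega
    · have hV : V = 2280 := by
        obtain ⟨w, rfl⟩ : 95 ∣ V :=
          Nat.Coprime.mul_dvd_of_dvd_of_dvd (m := 5) (n := 19) (by norm_num) h5N hqN
        have h2 : w * nq = 1848 := Nat.eq_of_mul_eq_mul_left (show 0 < 95 by norm_num)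
          (by rw [← mul_assoc, hnz])
        have hmem : w ∈ Nat.divisors 1848 := Nat.mem_divisors.mpr ⟨⟨nq, h2.symm⟩, by norm_num⟩
        have key : ∀ w ∈ Nat.divisors 1848, 95 * w < 175560 → 1848 / w % 19 = 1 → w = 24 := by
          decide +kernel
        rw [key w hmem hlt (by rw [← h2, Nat.mul_div_cancel_left _ (Nat.pos_of_mem_divisors hmem)]; exact hmod)]
      subst hV
      have he : e ≤ 18 := Nat.le_of_dvd (by norm_num) hrelz
      interval_cases e <;> omega
  rw [hm]
  simp only [List.mem_cons, List.not_mem_nil, or_false] at hml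
  rcases hml with rfl | rfl | rfl | rfl
  · rfl
  · exact (hz 11 (by norm_num) (.inl ⟨rfl, rfl⟩)).elim
  · exact (hz 19 (by norm_num) (.inr ⟨rfl, by norm_num⟩)).elim
  · exact (hz 19 (by norm_num) (.inr ⟨rfl, by norm_num⟩)).elim

end Marked

end CfsgLib.JankoUnique
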