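import Cfsg.Agent.JankoUnique.Relations
import Cfsg.Agent.SylowToolkit.PermRep

/-!
# The letters generate the group
-/

set_option autoImplicit false
set_option linter.style.haveILetI false
set_option synthInstance.maxSize 100000
set_option synthInstance.maxHeartbeats 400000

namespace CfsgLib.JankoUnique

open Subgroup CfsgLib.SylowToolkit CfsgLib.CosetEnum

universe u

theorem card_Q5 : Nat.card Q5 = 120 := by
  rw [Nat.card_eq_fintype_card, Fintype.card_prod, Fintype.card_multiplicative, ZMod.card,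
    ← Nat.card_eq_fintype_card, nat_card_alternatingGroup, Nat.card_eq_fintype_card, Fintype.card_fin]
  rfl

theorem gen_facts :
    gword lC [2, 4, 2, 5, 2, 4, 2, 5, 2, 4] = sl 4 ∧ (1, aA) = sl 2 ∧
    sl 3 = sl 1 * sl 2 ∧ sl 5 = sl 1 * sl 4 ∧ sl 6 = sl 2 * sl 4 ∧ sl 7 = sl 3 * sl 4 := by
  decide +kernel

theorem closure_Q5 : closure {tQ, ((1, aA) : Q5), (1, zA)} = ⊤ := by
  set K := closure {tQ, ((1, aA) : Q5), (1, zA)} with hK
  have hl : ∀ x, lC x ∈ K := by
    intro x
    have h1 : ((1, zA) : Q5) ∈ K := subset_closure (by simp)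
    simp only [lC]
    split_ifs
    · exact subset_closure (by simp)
    · exact subset_closure (by simp)
    · exact h1
    · have : ((1, zA⁻¹) : Q5) = ((1, zA) : Q5)⁻¹ := by simp
      rw [this]; exact inv_mem h1
    · exact one_mem K
  have hw : ∀ w, gword lC w ∈ K := fun w => by
    induction w with
    | nil => exact one_mem K
    | cons a w ih => rw [gword_cons]; exact mul_mem (hl a) ih
  obtain ⟨f4, f2, f3, f5, f6, f7⟩ := gen_facts
  have h1 : sl 1 ∈ K := by rw [sl_one]; exact subset_closure (by simp)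
  have h2 : sl 2 ∈ K := by rw [← f2]; exact subset_closure (by simp)
  have h4 : sl 4 ∈ K := f4 ▸ hw _
  have h3 : sl 3 ∈ K := by rw [f3]; exact mul_mem h1 h2
  have hS : subS ≤ K := by
    rintro _ ⟨k, rfl⟩
    fin_cases k
    · change sl 0 ∈ K; rw [sl_zero]; exact one_mem K
    · exact h1
    · exact h2
    · exact h3
    · exact h4
    · change sl 5 ∈ K; rw [f5]; exact mul_mem h1 h4
    · change sl 6 ∈ K; rw [f6]; exact mul_mem h2 h4
    · change sl 7 ∈ K; rw [f7]; exact mul_mem h3 h4
  have h8 : 8 ∣ Nat.card K := card_subS ▸ card_dvd_of_le hS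
  haveI : Fact (Nat.Prime 3) := ⟨by norm_num⟩
  haveI : Fact (Nat.Prime 5) := ⟨by norm_num⟩
  have h3' : 3 ∣ Nat.card K := by
    have h := orderOf_dvd_natCard (⟨bQ, hw _⟩ : K)
    rwa [show orderOf (⟨bQ, hw _⟩ : K) = orderOf bQ from (orderOf_injective K.subtype K.subtype_injective _).symm, orderOf_eq_prime bQ_pow.1 bQ_pow.2.1] at h
  have h5' : 5 ∣ Nat.card K := by
    have h := orderOf_dvd_natCard (⟨xQ, hw _⟩ : K)
    rwa [show orderOf (⟨xQ, hw _⟩ : K) = orderOf xQ from (orderOf_injective K.subtype K.subtype_injective _).symm, orderOf_eq_prime bQ_pow.2.2.2.2.1 bQ_pow.2.2.2.2.2.1] at h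
  have h120 : 8 * 3 * 5 ∣ Nat.card K :=
    Nat.Coprime.mul_dvd_of_dvd_of_dvd (by norm_num)
      (Nat.Coprime.mul_dvd_of_dvd_of_dvd (by norm_num) h8 h3') h5'
  exact eq_top_of_card_eq K (Nat.dvd_antisymm (card_subgroup_dvd_card K)
    (by rw [card_Q5]; exact h120))

theorem inv_facts : ∀ i : Fin 8, (if i = 0 then uQ else sl i) ^ 2 = 1 ∧ (if i = 0 then uQ else sl i) ≠ 1 := by
  decide +kernel

namespace Marked

variable {G : Type u} [Group G] (M : Marked G)

theorem range_le_closure : M.ψ.range ≤ closure {a | ∃ x < 8, M.letters x = a} := by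
  rw [MonoidHom.range_eq_map, ← closure_Q5, MonoidHom.map_closure]
  refine closure_mono ?_
  rintro _ ⟨q, hq, rfl⟩
  simp only [Set.mem_insert_iff, Set.mem_singleton_iff] at hq
  rcases hq with rfl | rfl | rfl
  · exact ⟨0, by norm_num, by simp [letters, lC]⟩
  · exact ⟨2, by norm_num, by simp [letters, lC]⟩
  · exact ⟨4, by norm_num, by simp [letters, lC]⟩

theorem d_not_mem_range : M.d ∉ M.ψ.range := by
  rintro ⟨q, hq⟩
  have h1 := (M.toCent.mem_centralizer_iff'.mpr ⟨q, hq.symm⟩)
  change M.d * M.ψ tQ = M.ψ tQ * M.d at h1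
  have h2 := M.acts_d 1
  rw [sl_one, mul_inv_eq_iff_eq_mul.mpr h1, ← sl_one] at h2
  exact absurd (sl_injective (M.inj h2)) (by decide)

variable (hG : Nat.card G = 175560) [IsSimpleGroup G]

include hG

theorem closure_eq_top : closure {a | ∃ x < 8, M.letters x = a} = ⊤ := by
  classical
  haveI := Cent.finite_G hG
  haveI : Fact (Nat.Prime 2) := ⟨Nat.prime_two⟩
  haveI : Fact (Nat.Prime 7) := ⟨by norm_num⟩
  set L := closure {a | ∃ x < 8, M.letters x = a} with hLdef
  have hCL : M.ψ.range ≤ L := M.range_le_closure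
  have hdL : M.d ∈ L := subset_closure ⟨6, by norm_num, M.letters_six.1⟩
  have hC : ∀ g, g * M.ψ tQ = M.ψ tQ * g → g ∈ L := fun g h => by
    obtain ⟨q, rfl⟩ := M.toCent.mem_centralizer_iff'.mp h
    exact hCL ⟨q, rfl⟩
  by_contra hne
  have h120 : 120 ∣ Nat.card L := by
    have h := card_dvd_of_le hCL
    rwa [Nat.card_congr (MonoidHom.ofInjective M.inj).toEquiv.symm, card_Q5] at h
  have h7 : 7 ∣ Nat.card L := by
    have hd1 : M.d ≠ 1 := fun h => M.d_not_mem_range (h ▸ one_mem _)
    have h := orderOf_dvd_natCard (⟨M.d, hdL⟩ : L)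
    rwa [Subgroup.orderOf_mk, orderOf_eq_prime M.d_pow hd1] at h
  obtain ⟨j, hj⟩ : 840 ∣ Nat.card L :=
    Nat.Coprime.mul_dvd_of_dvd_of_dvd (m := 120) (n := 7) (by norm_num) h120 h7
  -- every involution of `L` is conjugate in `L` to `t`
  have hinv : ∀ s ∈ L, orderOf s = 2 → ∃ l ∈ L, s = l * M.ψ tQ * l⁻¹ := by
    intro s hs hs2
    obtain ⟨P, hP⟩ := M.toCent.exists_sylow hG
    have hPL : (P : Subgroup G) ≤ L := by
      rw [hP]
      exact (map_mono le_top).trans ((MonoidHom.range_eq_map M.ψ).symm.le.trans hCL)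
    let P' : Sylow 2 L := P.subtype hPL
    obtain ⟨Q, hQ⟩ := (IsPGroup.of_card (p := 2) (n := 1) (show Nat.card (zpowers (⟨s, hs⟩ : L)) = 2 ^ 1 by
      rw [Nat.card_zpowers, Subgroup.orderOf_mk, hs2, pow_one])).exists_le_sylow
    obtain ⟨c, hc⟩ := MulAction.exists_smul_eq L Q P'
    have hmem : (c : G) * s * (c : G)⁻¹ ∈ M.toCent.S := by
      have h1 : MulAut.conj c ⟨s, hs⟩ ∈ (P' : Subgroup L) := by
        rw [← hc]
        exact Subgroup.smul_mem_pointwise_smul _ (MulAut.conj c) (Q : Subgroup L) (hQ (mem_zpowers _))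
      rw [← hP]
      exact h1
    obtain ⟨k, hk⟩ := M.toCent.mem_S.mp hmem
    have hk0 : k ≠ 0 := by
      rintro rfl
      rw [sl_zero, map_one, conj_eq_one_iff] at hk
      rw [hk, orderOf_one] at hs2
      norm_num at hs2
    obtain ⟨i, hi⟩ := mkF_basis.2.2.1 k hk0
    have h1 := (show M.toCent.Acts M.d piF from M.acts_d).pow i 1
    rw [hi, sl_one, ← hk] at h1
    refine ⟨(c : G)⁻¹ * M.d ^ (i : ℕ), mul_mem (inv_mem c.2) (pow_mem hdL _), ?_⟩
    calc s = (c : G)⁻¹ * ((c : G) * s * (c : G)⁻¹) * c := by group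
      _ = _ := by rw [← h1]; group
  have hidx : L.index * (840 * j) = 175560 := by rw [← hj, mul_comm, L.card_mul_index, hG]
  obtain ⟨hj209, hi209⟩ : j * L.index = 209 ∧ L.index ∣ 209 := by
    have h1 : j * L.index = 209 := Nat.eq_of_mul_eq_mul_left (show 0 < 840 by norm_num) (by
      rw [← mul_assoc, mul_comm, hidx])
    exact ⟨h1, ⟨j, by rw [← h1, mul_comm]⟩⟩
  have hidx4 : L.index = 1 ∨ L.index = 11 ∨ L.index = 19 ∨ L.index = 209 := by
    have hmem : L.index ∈ Nat.divisors 209 := Nat.mem_divisors.mpr ⟨hi209, by norm_num⟩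
    have key : ∀ i ∈ Nat.divisors 209, i = 1 ∨ i = 11 ∨ i = 19 ∨ i = 209 := by decide +kernel
    exact key _ hmem
  have hnc : ¬ IsMulCommutative G := not_isMulCommutative_of_not_prime (by rw [hG]; norm_num)
  rcases hidx4 with h | h | h | h
  · exact hne (index_eq_one.mp h)
  · have h1 := card_dvd_factorial_index hne
    rw [hG, h] at h1
    norm_num [Nat.factorial] at h1
  · -- an involution with exactly one fixed point on 19 points is odd
    letI : Fintype (G ⧸ L) := Fintype.ofFinite _
    set σ := MulAction.toPermHom G (G ⧸ L) (M.ψ tQ) with hσ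
    have hsign := sign_eq_one hnc (MulAction.toPermHom G (G ⧸ L)) (M.ψ tQ)
    rw [← hσ] at hsign
    have hσ2 : σ ^ 2 = 1 := by rw [hσ, ← map_pow, ← map_pow, bQ_pow.2.2.2.1, map_one, map_one]
    have hfix : ∀ p : G ⧸ L, σ p = p → p = ((1 : G) : G ⧸ L) := by
      intro p hp
      induction p using QuotientGroup.induction_on with
      | H g =>
        have h1 : ((M.ψ tQ * g : G) : G ⧸ L) = (g : G ⧸ L) := hp
        rw [QuotientGroup.eq] at h1
        have h2 : g⁻¹ * M.ψ tQ * g ∈ L := by
          have := inv_mem h1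
          simpa [mul_assoc] using this
        have ho : orderOf (g⁻¹ * M.ψ tQ * g) = 2 := by
          have h0 : g⁻¹ * M.ψ tQ * g = MulAut.conj g⁻¹ (M.ψ tQ) := by rw [MulAut.conj_apply, inv_inv]
          rw [h0, MulEquiv.orderOf_eq, orderOf_injective _ M.inj]
          exact orderOf_eq_prime bQ_pow.2.2.2.1
            (fun h => absurd (congrArg (fun q : Q5 => Multiplicative.toAdd q.1) h) (by simp [tQ]))
        obtain ⟨l, hl, he⟩ := hinv _ h2 ho
        have h3 : g * l ∈ L := hC _ (by
          calc g * l * M.ψ tQ = g * (l * M.ψ tQ * l⁻¹) * l := by group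
            _ = g * (g⁻¹ * M.ψ tQ * g) * l := by rw [he]
            _ = M.ψ tQ * (g * l) := by group)
        rw [QuotientGroup.eq, mul_one]
        exact inv_mem ((mul_mem_cancel_right hl).mp h3)
    have hsupp : σ.support = Finset.univ.erase ((1 : G) : G ⧸ L) := by
      ext p
      rw [Equiv.Perm.mem_support, Finset.mem_erase]
      refine ⟨fun hp => ⟨fun e => hp ?_, Finset.mem_univ _⟩, fun hp e => hp.1 (hfix p e)⟩
      subst e
      change ((M.ψ tQ * 1 : G) : G ⧸ L) = ((1 : G) : G ⧸ L)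
      rw [QuotientGroup.eq]
      simpa using inv_mem (hCL ⟨tQ, rfl⟩)
    have hcard : σ.support.card = 18 := by
      rw [hsupp, Finset.card_erase_of_mem (Finset.mem_univ _), Finset.card_univ,
        ← Nat.card_eq_fintype_card, ← index_eq_card, h]
    haveI : Fact (Nat.Prime 2) := ⟨Nat.prime_two⟩
    have hσ1 : σ ≠ 1 := fun e => by rw [e, Equiv.Perm.support_one] at hcard; simp at hcard
    obtain ⟨n, hn⟩ := Equiv.Perm.cycleType_prime_order (orderOf_eq_prime hσ2 hσ1 ▸ Nat.prime_two)
    rw [orderOf_eq_prime hσ2 hσ1] at hn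
    have hsum := Equiv.Perm.sum_cycleType σ
    rw [hn, Multiset.sum_replicate, hcard, smul_eq_mul] at hsum
    rw [Equiv.Perm.sign_of_cycleType, hn, Multiset.sum_replicate, Multiset.card_replicate, smul_eq_mul,
      show n + 1 = 9 by omega] at hsign
    exact absurd hsign (by decide)
  · -- `L` would have only seven involutions
    have hj1 : j = 1 := by rw [h] at hj209; omega
    subst hj1
    let f : Fin 8 → G := fun k => if k = 0 then M.ψ uQ else M.ψ (sl k)
    have hf : Function.Injective f := by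
      have h0 : ∀ i j : Fin 8, (if i = 0 then uQ else sl i) = (if j = 0 then uQ else sl j) → i = j := by
        decide +kernel
      intro i j hij
      refine h0 i j (M.inj ?_)
      simpa [f, apply_ite M.ψ] using hij
    let C' := (centralizer ({M.ψ tQ} : Set G)).subgroupOf L
    let F : L ⧸ C' → G := fun p => Quotient.liftOn' p (fun l : L => (l : G) * M.ψ tQ * (l : G)⁻¹)
      (fun a b hab => by
        rw [QuotientGroup.leftRel_apply, mem_subgroupOf, mem_centralizer_singleton_iff] at hab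
        simp only [Subgroup.coe_mul, Subgroup.coe_inv] at hab
        calc (a : G) * M.ψ tQ * (a : G)⁻¹
            = (a : G) * (M.ψ tQ * ((a : G)⁻¹ * b)) * (b : G)⁻¹ := by group
          _ = (b : G) * M.ψ tQ * (b : G)⁻¹ := by rw [← hab]; group)
    have hsub : Set.range f ⊆ Set.range F := by
      rintro _ ⟨k, rfl⟩
      have hk : f k ∈ L ∧ orderOf (f k) = 2 := by
        have he : f k = M.ψ (if k = 0 then uQ else sl k) := by simp [f, apply_ite M.ψ]
        exact ⟨he ▸ hCL ⟨_, rfl⟩, by
          rw [he, orderOf_injective _ M.inj]; exact orderOf_eq_prime (inv_facts k).1 (inv_facts k).2⟩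
      obtain ⟨l, hl, he⟩ := hinv _ hk.1 hk.2
      exact ⟨QuotientGroup.mk ⟨l, hl⟩, he.symm⟩
    have h8 : Nat.card (Set.range f) ≤ Nat.card (L ⧸ C') :=
      (Nat.card_mono (Set.finite_range F) hsub).trans (Finite.card_range_le F)
    rw [Nat.card_range_of_injective hf, Nat.card_eq_fintype_card, Fintype.card_fin] at h8
    have hC'card : Nat.card C' = 120 := by
      rw [Nat.card_congr (subgroupOfEquivOfLe (M.range_eq ▸ hCL)).toEquiv, ← M.range_eq,
        Nat.card_congr (MonoidHom.ofInjective M.inj).toEquiv.symm, card_Q5]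
    have := C'.card_mul_index
    rw [hC'card, hj, index_eq_card] at this
    omega

end Marked

end CfsgLib.JankoUnique
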