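import Cfsg.Agent.JankoUnique.Model
import Cfsg.Agent.SylowToolkit.Basic

/-!
# The normaliser of a Sylow 2-subgroup in a simple group with an involution centraliser `2 × A₅`
-/

set_option autoImplicit false
set_option linter.style.haveILetI false

namespace CfsgLib.JankoUnique

open Subgroup CfsgLib.CosetEnum

universe u

variable {G : Type u} [Group G]

/-- An embedded copy of `2 × A₅` which is the centraliser of its central involution. -/
structure Cent (G : Type u) [Group G] where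
  ψ : Q5 →* G
  inj : Function.Injective ψ
  range_eq : ψ.range = centralizer ({ψ tQ} : Set G)

namespace Cent

variable (M : Cent G)

/-- the distinguished involution -/
def t : G := M.ψ tQ

/-- the element of order 3 -/
def b : G := M.ψ bQ

/-- the Sylow 2-subgroup -/
def S : Subgroup G := subS.map M.ψ

/-- `n` induces `f` on the labels -/
def Acts (n : G) (f : Fin 8 → Fin 8) : Prop := ∀ k, n * M.ψ (sl k) * n⁻¹ = M.ψ (sl (f k))

theorem mem_S {g : G} : g ∈ M.S ↔ ∃ k, g = M.ψ (sl k) := by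
  constructor
  · rintro ⟨_, ⟨k, rfl⟩, rfl⟩; exact ⟨k, rfl⟩
  · rintro ⟨k, rfl⟩; exact ⟨_, ⟨k, rfl⟩, rfl⟩

theorem mem_centralizer_iff' {g : G} : g * M.t = M.t * g ↔ ∃ q, g = M.ψ q := by
  rw [← mem_centralizer_singleton_iff, t, ← M.range_eq, MonoidHom.mem_range]
  exact ⟨fun ⟨q, h⟩ => ⟨q, h.symm⟩, fun ⟨q, h⟩ => ⟨q, h.symm⟩⟩

theorem acts_b : M.Acts M.b bF := fun k => by
  rw [b, ← map_inv, ← map_mul, ← map_mul, bQ_conj]

theorem b_pow : M.b ^ 3 = 1 := by rw [b, ← map_pow, bQ_pow.1, map_one]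

variable {M}

theorem Acts.mul {n m : G} {f g : Fin 8 → Fin 8} (hn : M.Acts n f) (hm : M.Acts m g) :
    M.Acts (n * m) (f ∘ g) := fun k => by
  rw [Function.comp_apply, ← hn, ← hm]; group

theorem Acts.one : M.Acts (1 : G) id := fun k => by simp

theorem Acts.pow {n : G} {f : Fin 8 → Fin 8} (hn : M.Acts n f) : ∀ i : ℕ, M.Acts (n ^ i) f^[i]
  | 0 => by simpa using Acts.one
  | i + 1 => by
    rw [pow_succ, Function.iterate_succ]
    exact (hn.pow i).mul hn

theorem Acts.unique {n : G} {f g : Fin 8 → Fin 8} (hf : M.Acts n f) (hg : M.Acts n g) : f = g :=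
  funext fun k => sl_injective (M.inj ((hf k).symm.trans (hg k)))

theorem Acts.injective {n : G} {f : Fin 8 → Fin 8} (hf : M.Acts n f) : Function.Injective f := by
  intro i j h
  refine sl_injective (M.inj (mul_left_cancel (a := n) (mul_right_cancel (b := n⁻¹) ?_)))
  rw [hf, hf, h]

theorem Acts.map_lmul {n : G} {f : Fin 8 → Fin 8} (hf : M.Acts n f) (i j : Fin 8) :
    f (lmul i j) = lmul (f i) (f j) := by
  refine sl_injective (M.inj ?_)
  rw [← hf, ← sl_mul, ← sl_mul, map_mul, map_mul, ← hf, ← hf]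
  group

theorem Acts.map_zero {n : G} {f : Fin 8 → Fin 8} (hf : M.Acts n f) : f 0 = 0 := by
  refine sl_injective (M.inj ?_)
  rw [← hf, sl_zero, map_one]; group

theorem Acts.eq_mkF {n : G} {f : Fin 8 → Fin 8} (hf : M.Acts n f) : f = mkF (f 1) (f 2) (f 4) := by
  funext k
  conv_lhs => rw [← congrFun mkF_basis.1 k |>.trans (id_eq k)]
  simp only [mkF, hf.map_lmul, apply_ite f, hf.map_zero]

theorem Acts.mem_S {n : G} (hn : M.Acts n id) : n ∈ M.S := by
  have h1 : n * M.t * n⁻¹ = M.t := by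
    have := hn 1
    rwa [id_eq, sl_one] at this
  obtain ⟨q, rfl⟩ := M.mem_centralizer_iff'.mp (mul_inv_eq_iff_eq_mul.mp h1)
  have key : ∀ k, q * sl k = sl k * q := fun k => by
    have h2 := hn k
    rw [id_eq, mul_inv_eq_iff_eq_mul, ← map_mul, ← map_mul] at h2
    exact M.inj h2
  obtain ⟨k, rfl⟩ := centralizer_subS q (key 2) (key 4)
  exact M.mem_S.mpr ⟨k, rfl⟩

theorem acts_sl (s : Fin 8) : M.Acts (M.ψ (sl s)) id := fun k => by
  rw [← map_inv, ← map_mul, ← map_mul, sl_inv, id_eq, sl_mul, sl_mul]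
  congr 2
  revert k s
  decide +kernel

theorem Acts.mem_normalizer {n : G} {f : Fin 8 → Fin 8} (hf : M.Acts n f) :
    n ∈ normalizer (M.S : Set G) := by
  rw [mem_normalizer_iff]
  intro g
  constructor
  · intro hg
    obtain ⟨k, rfl⟩ := M.mem_S.mp hg
    exact M.mem_S.mpr ⟨f k, hf k⟩
  · intro hg
    obtain ⟨j, hj⟩ := M.mem_S.mp hg
    obtain ⟨k, rfl⟩ := (Finite.injective_iff_surjective.mp hf.injective) j
    rw [← hf k] at hj
    exact M.mem_S.mpr ⟨k, mul_left_cancel (mul_right_cancel hj)⟩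

theorem exists_acts {n : G} (hn : n ∈ normalizer (M.S : Set G)) : ∃ f, M.Acts n f := by
  have h : ∀ k, ∃ j, n * M.ψ (sl k) * n⁻¹ = M.ψ (sl j) := fun k => M.mem_S.mp
    ((mem_normalizer_iff.mp hn _).mp (M.mem_S.mpr ⟨k, rfl⟩))
  exact ⟨fun k => (h k).choose, fun k => (h k).choose_spec⟩

variable (M)

theorem card_S : Nat.card M.S = 8 := by
  rw [S, Nat.card_congr (equivMapOfInjective subS M.ψ M.inj).toEquiv.symm, card_subS]

theorem S_comm : IsMulCommutative M.S := by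
  refine ⟨⟨?_⟩⟩
  rintro ⟨a, ha⟩ ⟨c, hc⟩
  obtain ⟨i, rfl⟩ := M.mem_S.mp ha
  obtain ⟨j, rfl⟩ := M.mem_S.mp hc
  apply Subtype.ext
  show M.ψ (sl i) * M.ψ (sl j) = M.ψ (sl j) * M.ψ (sl i)
  exact mul_inv_eq_iff_eq_mul.mp (acts_sl i j)

variable (hG : Nat.card G = 175560)

include hG

theorem finite_G : Finite G := Nat.finite_of_card_ne_zero (by rw [hG]; norm_num)

/-- the Sylow 2-subgroup -/
theorem exists_sylow : ∃ P : Sylow 2 G, (P : Subgroup G) = M.S := by
  haveI := finite_G hG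
  haveI : Fact (Nat.Prime 2) := ⟨Nat.prime_two⟩
  obtain ⟨P, hP⟩ := (IsPGroup.of_card (p := 2) (n := 3) M.card_S).exists_le_sylow
  have hc : Nat.card (P : Subgroup G) = 8 :=
    CfsgLib.SylowToolkit.card_sylow_subgroup_eq (k := 3) (m := 21945) (by rw [hG]; norm_num) (by norm_num) P
  exact ⟨P, (eq_of_le_of_card_ge hP (by rw [hc, M.card_S])).symm⟩

/-- a permutation induced by the normaliser has odd order -/
theorem Acts.oddF {M : Cent G} {n : G} {f : Fin 8 → Fin 8} (hf : M.Acts n f) : OddF f := by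
  haveI := finite_G hG
  haveI : Fact (Nat.Prime 2) := ⟨Nat.prime_two⟩
  intro h4
  obtain ⟨a, m, hm, hn⟩ := Nat.exists_eq_two_pow_mul_odd (orderOf_pos n).ne'
  have hp : IsPGroup 2 (zpowers (n ^ m)) := by
    refine IsPGroup.of_card (n := a) ?_
    rw [Nat.card_zpowers, orderOf_pow' n (by rintro rfl; simp at hm), hn,
      Nat.gcd_eq_right (dvd_mul_left _ _), Nat.mul_div_cancel _ hm.pos]
  obtain ⟨P, hP⟩ := M.exists_sylow hG
  have hmem : n ^ m ∈ M.S := by
    have h1 := hp.inf_normalizer_sylow P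
    have h2 : n ^ m ∈ zpowers (n ^ m) ⊓ normalizer (P : Set G) :=
      ⟨mem_zpowers _, by
        show n ^ m ∈ normalizer ((P : Subgroup G) : Set G)
        rw [hP]; exact (hf.pow m).mem_normalizer⟩
    rw [h1] at h2
    exact hP ▸ h2.2
  obtain ⟨s, hs⟩ := M.mem_S.mp hmem
  have hfm : f^[m] = id := (hf.pow m).unique (hs ▸ acts_sl s)
  intro k
  have h1 : Function.IsPeriodicPt f m k := congrFun hfm k
  have h2 : Function.IsPeriodicPt f 4 k := h4 k
  have h3 := h1.gcd h2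
  rw [show Nat.gcd m 4 = 1 from (Nat.Coprime.pow_right 2 (Nat.coprime_two_right.mpr hm) : Nat.Coprime m (2 ^ 2))] at h3
  exact h3

/-- the centre of a Sylow 2-subgroup is not weakly closed: some element of the normaliser moves `t` -/
theorem exists_moving [IsSimpleGroup G] : ∃ n f, M.Acts n f ∧ f 1 ≠ 1 := by
  haveI := finite_G hG
  haveI : Fact (Nat.Prime 2) := ⟨Nat.prime_two⟩
  by_contra hcon
  push Not at hcon
  obtain ⟨P, hP⟩ := M.exists_sylow hG
  haveI hcomm : IsMulCommutative (P : Subgroup G) := hP ▸ M.S_comm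
  have ht : M.t ∈ (P : Subgroup G) := by rw [hP]; exact M.mem_S.mpr ⟨1, by rw [sl_one]; rfl⟩
  have hiso : ∀ g : G, g⁻¹ * M.t * g ∈ (P : Subgroup G) → g⁻¹ * M.t * g = M.t := by
    intro g hg
    obtain ⟨n, hn, he⟩ := Sylow.conj_eq_normalizer_conj_of_mem P M.t g ht hg
    rw [he]
    have hn' : n ∈ normalizer ((P : Subgroup G) : Set G) := hn
    rw [hP] at hn'
    obtain ⟨f, hf⟩ := exists_acts hn'
    have h1 := hf 1
    rw [hcon n f hf, sl_one] at h1
    change n * M.t * n⁻¹ = M.t at h1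
    rw [mul_assoc, ← mul_inv_eq_iff_eq_mul.mp h1, inv_mul_cancel_left]
  have ht2 : M.t ^ 2 = 1 := by rw [t, ← map_pow, bQ_pow.2.2.2.1, map_one]
  letI : CommGroup (P : Subgroup G) :=
    { (inferInstance : Group (P : Subgroup G)) with mul_comm := hcomm.is_comm.comm }
  let φ : (P : Subgroup G) →* (P : Subgroup G) := MonoidHom.id _
  have key : ∀ (k : ℕ) (g₀ : G), g₀⁻¹ * M.t ^ k * g₀ ∈ (P : Subgroup G) →
      g₀⁻¹ * M.t ^ k * g₀ = M.t ^ k := by
    intro k g₀ h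
    rcases Nat.even_or_odd k with ⟨j, rfl⟩ | ⟨j, rfl⟩
    · rw [← two_mul, pow_mul, ht2, one_pow, mul_one, inv_mul_cancel]
    · rw [pow_succ, pow_mul, ht2, one_pow, one_mul] at h ⊢
      exact hiso g₀ h
  have htr := MonoidHom.transfer_eq_pow φ M.t key
  have hidx : (P : Subgroup G).index = 21945 := by
    have h1 := (P : Subgroup G).card_mul_index
    rw [hG, hP, M.card_S] at h1
    rw [hP]
    omega
  have hne : MonoidHom.transfer φ M.t ≠ 1 := by
    rw [htr]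
    intro h
    have h1 : M.t ^ (P : Subgroup G).index = 1 := congrArg Subtype.val h
    rw [hidx, show (21945 : ℕ) = 2 * 10972 + 1 from rfl, pow_succ, pow_mul, ht2, one_pow, one_mul] at h1
    have h2 : sl 1 = sl 0 := M.inj (by rw [sl_one, sl_zero, map_one]; exact h1)
    exact absurd (sl_injective h2) (by decide)
  rcases IsSimpleGroup.eq_bot_or_eq_top_of_normal (MonoidHom.transfer φ).ker inferInstance with h | h
  · have h1 := Nat.card_le_card_of_injective _ ((MonoidHom.ker_eq_bot_iff _).mp h)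
    rw [hG, hP, M.card_S] at h1
    norm_num at h1
  · exact hne (MonoidHom.mem_ker.mp (h ▸ mem_top M.t))

/-- an element of order 7 normalised by `b` -/
theorem exists_seven_element [IsSimpleGroup G] : ∃ d f, ∃ k : ℕ, (k = 2 ∨ k = 4) ∧ d ^ 7 = 1 ∧
    M.Acts d f ∧ (∃ i, f i ≠ i) ∧ M.b * d * M.b⁻¹ = d ^ k := by
  haveI := finite_G hG
  haveI : Fact (Nat.Prime 7) := ⟨by norm_num⟩
  obtain ⟨n, f, hf, hf1⟩ := M.exists_moving hG
  have hb := M.acts_b
  have hb1 : bF 1 = 1 := rfl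
  obtain ⟨m, g, hg, hg7, hg1⟩ : ∃ m g, M.Acts m g ∧ g^[7] = id ∧ g 1 ≠ 1 := by
    have h := exists_seven (f 1) (f 2) (f 4)
    rw [← hf.eq_mkF] at h
    rcases h hf.injective hf1 (hf.oddF hG) ((hf.mul hb).oddF hG) ((hf.mul (hb.mul hb)).oddF hG) with h | h | h
    · exact ⟨n, f, hf, h, hf1⟩
    · exact ⟨_, _, hf.mul hb, h, by simp [hb1, hf1]⟩
    · exact ⟨_, _, hf.mul (hb.mul hb), h, by simp [hb1, hf1]⟩
  have hgne : ∃ i, g i ≠ i := ⟨1, hg1⟩
  have hdvd : 7 ∣ orderOf m := by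
    by_contra hnd
    have h1 : Function.IsPeriodicPt g (orderOf m) 1 := by
      have := (hg.pow (orderOf m)).unique (pow_orderOf_eq_one m ▸ Acts.one)
      exact congrFun this 1
    have h3 := h1.gcd (show Function.IsPeriodicPt g 7 1 from congrFun hg7 1)
    rw [((Nat.Prime.coprime_iff_not_dvd (by norm_num)).mpr hnd).symm.gcd_eq_one] at h3
    exact hg1 h3
  obtain ⟨o, ho⟩ := hdvd
  have ho0 : o ≠ 0 := by rintro rfl; exact (orderOf_pos m).ne' (by simpa using ho)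
  set d := m ^ o with hd
  have hod : orderOf d = 7 := by
    rw [hd, orderOf_pow' m ho0, ho, Nat.gcd_eq_right (dvd_mul_left _ _),
      Nat.mul_div_cancel _ (Nat.pos_of_ne_zero ho0)]
  have hd7 : d ^ 7 = 1 := by rw [← hod]; exact pow_orderOf_eq_one d
  set F := g^[o] with hF
  have hdF : M.Acts d F := hg.pow o
  have hFne : ∃ i, F i ≠ i := by
    by_contra hall
    push Not at hall
    have hmem := Acts.mem_S ((funext hall : F = id) ▸ hdF)
    have h1 := orderOf_dvd_natCard (⟨d, hmem⟩ : M.S)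
    rw [Subgroup.orderOf_mk, hod, M.card_S] at h1
    norm_num at h1
  have hF7 : F^[7] = id := ((hdF.pow 7).unique (hd7 ▸ Acts.one))
  have hn' := normalised_seven (F 1) (F 2) (F 4)
  rw [← hdF.eq_mkF] at hn'
  have hbinv : M.Acts M.b⁻¹ (bF ∘ bF) := by
    rw [inv_eq_of_mul_eq_one_right (show M.b * (M.b * M.b) = 1 by rw [← M.b_pow, pow_three])]
    exact hb.mul hb
  obtain ⟨k, hk, hkF⟩ : ∃ k, (k = 2 ∨ k = 4) ∧ bF ∘ F ∘ bF ∘ bF = F^[k] := by
    rcases hn' hdF.injective hF7 hFne ((hdF.mul hb).oddF hG) ((hdF.mul (hb.mul hb)).oddF hG)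
      ((hdF.mul (hdF.mul hb)).oddF hG) ((hdF.mul (hdF.mul (hb.mul hb))).oddF hG) with h | h
    · exact ⟨2, .inl rfl, h⟩
    · exact ⟨4, .inr rfl, h⟩
  have hconj : M.Acts (M.b * d * M.b⁻¹) F^[k] := hkF ▸ (hb.mul hdF).mul hbinv
  obtain ⟨σ, hσ⟩ : ∃ σ, (d ^ k)⁻¹ * (M.b * d * M.b⁻¹) = M.ψ (sl σ) := M.mem_S.mp (Acts.mem_S fun i => by
    have h1 := hconj i
    have h2 := hdF.pow k i
    rw [id_eq]
    calc (d ^ k)⁻¹ * (M.b * d * M.b⁻¹) * M.ψ (sl i) * ((d ^ k)⁻¹ * (M.b * d * M.b⁻¹))⁻¹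
        = (d ^ k)⁻¹ * ((M.b * d * M.b⁻¹) * M.ψ (sl i) * (M.b * d * M.b⁻¹)⁻¹) * (d ^ k) := by group
      _ = M.ψ (sl i) := by rw [h1, ← h2]; group)
  have hn2 : M.b * d * M.b⁻¹ = M.ψ (sl (F^[k] σ)) * d ^ k := by
    rw [← hdF.pow k σ, ← hσ]; group
  have hF' := hdF.eq_mkF
  obtain ⟨r, hr⟩ : ∃ r, lmul r (F^[k] r) = F^[k] σ := by
    have h := solve_shift (F 1) (F 2) (F 4)
    rw [← hF'] at h
    rcases hk with rfl | rfl
    · exact (h hdF.injective hF7 hFne _).1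
    · exact (h hdF.injective hF7 hFne _).2
  -- the conjugates of `d` under `S`
  set D : Fin 8 → G := fun s => M.ψ (sl s) * d * M.ψ (sl s) with hD
  have hsq : ∀ s, M.ψ (sl s) * M.ψ (sl s) = 1 := fun s => by
    rw [← map_mul, sl_mul, lmul_self, sl_zero, map_one]
  have hDpow : ∀ s i, D s ^ i = M.ψ (sl s) * d ^ i * M.ψ (sl s) := by
    intro s i
    induction i with
    | zero => simp [hsq]
    | succ i ih =>
      rw [pow_succ, ih, hD, pow_succ]
      simp only [mul_assoc, ← mul_assoc (M.ψ (sl s)) (M.ψ (sl s)), hsq, one_mul]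
  set T : Fin 8 → Fin 8 := fun s => lmul (bF s) r with hT
  have hn3 : M.b * d * M.b⁻¹ = D r ^ k := by
    rw [hn2, hDpow, ← hr, ← sl_mul, map_mul, ← hdF.pow k r]
    group
  have hstep : ∀ s, M.b * D s * M.b⁻¹ = D (T s) ^ k := by
    intro s
    have h1 : M.b * D s * M.b⁻¹ = M.ψ (sl (bF s)) * (M.b * d * M.b⁻¹) * M.ψ (sl (bF s)) := by
      rw [← hb s, hD]; group
    rw [h1, hn3, hDpow, hDpow, hT]
    simp only [← sl_mul, map_mul]
    have hc : M.ψ (sl r) * M.ψ (sl (bF s)) = M.ψ (sl (bF s)) * M.ψ (sl r) :=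
      mul_inv_eq_iff_eq_mul.mp (acts_sl r (bF s))
    simp only [mul_assoc]
    rw [hc]
  have hD7 : ∀ s, D s ^ 7 = 1 := fun s => by rw [hDpow, hd7, mul_one, hsq]
  have hT3 : ∀ s, T (T (T s)) = s := by
    intro s
    have h1 : D s = D (T (T (T s))) ^ (k * k * k) := by
      calc D s = M.b ^ 3 * D s * (M.b ^ 3)⁻¹ := by rw [M.b_pow]; group
        _ = M.b * (M.b * (M.b * D s * M.b⁻¹) * M.b⁻¹) * M.b⁻¹ := by rw [pow_three]; group
        _ = D (T (T (T s))) ^ (k * k * k) := by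
          rw [hstep, ← conj_pow, hstep, ← pow_mul, ← conj_pow, hstep, ← pow_mul, mul_assoc]
    have h2 : D (T (T (T s))) ^ (k * k * k) = D (T (T (T s))) := by
      rw [pow_eq_pow_mod _ (hD7 _)]
      rcases hk with rfl | rfl <;> simp
    rw [h2] at h1
    set s' := T (T (T s))
    have h3 : M.ψ (sl (lmul s' s)) * d * (M.ψ (sl (lmul s' s)))⁻¹ = d := by
      rw [← sl_mul, map_mul, mul_inv_rev, ← map_inv, ← map_inv, sl_inv, sl_inv]
      calc M.ψ (sl s') * M.ψ (sl s) * d * (M.ψ (sl s) * M.ψ (sl s'))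
          = M.ψ (sl s') * D s * M.ψ (sl s') := by rw [hD]; group
        _ = d := by
          rw [h1, hD]
          simp only [mul_assoc, hsq, mul_one]
          rw [← mul_assoc, hsq, one_mul]
    have h4 : F (lmul s' s) = lmul s' s := by
      refine sl_injective (M.inj ?_)
      rw [← hdF, mul_inv_eq_iff_eq_mul]
      exact (mul_inv_eq_iff_eq_mul.mp h3).symm
    have h5 := fixed_seven (F 1) (F 2) (F 4)
    rw [← hF'] at h5
    exact mkF_basis.2.1 _ _ (h5 hdF.injective hF7 hFne _ h4)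
  obtain ⟨s, hs⟩ := exists_fixed_affine r hT3
  refine ⟨D s, F, k, hk, hD7 s, ?_, hFne, by rw [hstep, show T s = s from hs]⟩
  have := ((acts_sl (M := M) s).mul hdF).mul (acts_sl s)
  simpa using this

end Cent

/-- A centraliser with an element of order 7 acting in the standard way on the Sylow 2-subgroup. -/
structure Marked (G : Type u) [Group G] extends Cent G where
  d : G
  d_pow : d ^ 7 = 1
  conj_b : ψ bQ * d * (ψ bQ)⁻¹ = d ^ 2
  acts_d : ∀ k, d * ψ (sl k) * d⁻¹ = ψ (sl (piF k))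

theorem exists_marked [IsSimpleGroup G] (hG : Nat.card G = 175560) (M₀ : Cent G) :
    ∃ M : Marked G, M.ψ tQ = M₀.ψ tQ := by
  obtain ⟨M, htM, d, f, hd7, hf, hfne, hbd⟩ : ∃ M : Cent G, M.ψ tQ = M₀.ψ tQ ∧ ∃ d f, d ^ 7 = 1 ∧
      M.Acts d f ∧ (∃ i, f i ≠ i) ∧ M.b * d * M.b⁻¹ = d ^ 2 := by
    obtain ⟨d, f, k, hk, hd7, hf, hfne, hbd⟩ := M₀.exists_seven_element hG
    rcases hk with rfl | rfl
    · exact ⟨M₀, rfl, d, f, hd7, hf, hfne, hbd⟩
    refine ⟨⟨M₀.ψ.comp sigmaQ.toMonoidHom, M₀.inj.comp sigmaQ.injective, ?_⟩, ?_, d, sF ∘ f ∘ sF, hd7, ?_, ?_, ?_⟩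
    · rw [MonoidHom.range_comp, MonoidHom.range_eq_top.mpr sigmaQ.surjective, ← MonoidHom.range_eq_map,
        M₀.range_eq]
      simp [sigmaQ_bQ.2]
    · simp [sigmaQ_bQ.2]
    · intro k
      show d * M₀.ψ (sigmaQ (sl k)) * d⁻¹ = M₀.ψ (sigmaQ (sl _))
      rw [sigmaQ_sl, sigmaQ_sl, hf]
      congr 2
      exact (congrFun mkF_basis.2.2.2.2.1 _).symm
    · obtain ⟨i, hi⟩ := hfne
      refine ⟨sF i, fun h => hi ?_⟩
      have hss : ∀ j, sF (sF j) = j := fun j => congrFun mkF_basis.2.2.2.2.1 j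
      simp only [Function.comp_apply, hss] at h
      rw [← hss (f i), h, hss]
    · show M₀.ψ (sigmaQ bQ) * d * (M₀.ψ (sigmaQ bQ))⁻¹ = d ^ 2
      rw [sigmaQ_bQ.1, map_inv, inv_inv]
      change M₀.b⁻¹ * d * M₀.b = d ^ 2
      have h8 : M₀.b * d ^ 2 * M₀.b⁻¹ = d := by
        rw [← conj_pow, hbd, ← pow_mul, pow_eq_pow_mod _ hd7]
        simp
      conv_lhs => rw [← h8]
      group
  suffices h : ∃ M' : Marked G, M'.ψ tQ = M.ψ tQ by
    obtain ⟨M', h⟩ := h
    exact ⟨M', h.trans htM⟩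
  have hF' := hf.eq_mkF
  have hf7 : f^[7] = id := (hf.pow 7).unique (hd7 ▸ Cent.Acts.one)
  have hbf : bF ∘ f ∘ bF ∘ bF = f^[2] := by
    have hbinv : M.Acts M.b⁻¹ (bF ∘ bF) := by
      rw [inv_eq_of_mul_eq_one_right (show M.b * (M.b * M.b) = 1 by rw [← M.b_pow, pow_three])]
      exact M.acts_b.mul M.acts_b
    exact ((M.acts_b.mul hf).mul hbinv).unique (hbd ▸ hf.pow 2)
  have h := eq_pow_piF (f 1) (f 2) (f 4)
  rw [← hF'] at h
  obtain ⟨i, -, hi⟩ := h hf.injective hf7 hfne hbf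
  refine ⟨⟨M, d ^ (i : ℕ), ?_, ?_, hi ▸ hf.pow i⟩, rfl⟩
  · rw [← pow_mul, mul_comm, pow_mul, hd7, one_pow]
  · change M.b * d ^ (i : ℕ) * M.b⁻¹ = _
    rw [← conj_pow, hbd, ← pow_mul, ← pow_mul, mul_comm]

namespace Marked

variable (M : Marked G) (hG : Nat.card G = 175560)

include hG

/-- all involutions are conjugate to `t` -/
theorem exists_conj_t {s : G} (hs : orderOf s = 2) : ∃ g : G, s = g * M.ψ tQ * g⁻¹ := by
  haveI := Cent.finite_G hG
  haveI : Fact (Nat.Prime 2) := ⟨Nat.prime_two⟩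
  obtain ⟨P, hP⟩ := M.toCent.exists_sylow hG
  obtain ⟨Q, hQ⟩ := (IsPGroup.of_card (p := 2) (n := 1) (show Nat.card (zpowers s) = 2 ^ 1 by
    rw [Nat.card_zpowers, hs, pow_one])).exists_le_sylow
  obtain ⟨g, hg⟩ := MulAction.exists_smul_eq G Q P
  have hmem : g * s * g⁻¹ ∈ M.toCent.S := by
    rw [← hP, ← hg]
    exact Subgroup.smul_mem_pointwise_smul s (MulAut.conj g) (Q : Subgroup G) (hQ (mem_zpowers s))
  obtain ⟨k, hk⟩ := M.toCent.mem_S.mp hmem
  have hk0 : k ≠ 0 := by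
    rintro rfl
    rw [sl_zero, map_one, conj_eq_one_iff] at hk
    rw [hk, orderOf_one] at hs
    norm_num at hs
  obtain ⟨i, hi⟩ := mkF_basis.2.2.1 k hk0
  have h1 := (show M.toCent.Acts M.d piF from M.acts_d).pow i 1
  rw [hi, sl_one, ← hk] at h1
  exact ⟨g⁻¹ * M.d ^ (i : ℕ), by rw [mul_inv_rev, inv_inv]; calc
    s = g⁻¹ * (g * s * g⁻¹) * g := by group
    _ = _ := by rw [← h1]; group⟩

end Marked

end CfsgLib.JankoUnique
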