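import Cfsg.Agent.JankoUnique.Generation
import Cfsg.Agent.JankoUnique.Case0.Upper
import Cfsg.Agent.JankoUnique.Case1.Upper
import Cfsg.Agent.JankoUnique.Case2.Upper
import Cfsg.Agent.JankoUnique.Case3.Upper

/-!
# Uniqueness of the simple group of order 175560 with an involution centraliser `2 × A₅`
-/

set_option autoImplicit false
set_option linter.style.haveILetI false
set_option maxRecDepth 10000

namespace CfsgLib.JankoUnique

open Subgroup CfsgLib.CosetEnum

universe u v

/-- an embedded centraliser from an isomorphism -/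
theorem cent_of_equiv {G : Type u} [Group G] {t : G} (ht : orderOf t = 2)
    (e : centralizer ({t} : Set G) ≃* Q5) : ∃ M : Cent G, M.ψ tQ = t := by
  set ψ : Q5 →* G := (centralizer ({t} : Set G)).subtype.comp e.symm.toMonoidHom with hψ
  have hinj : Function.Injective ψ := (Subgroup.subtype_injective _).comp e.symm.injective
  have hrange : ψ.range = centralizer ({t} : Set G) := by
    rw [hψ, MonoidHom.range_comp, MonoidHom.range_eq_top.mpr e.symm.surjective, ← MonoidHom.range_eq_map,
      range_subtype]
  have htmem : t ∈ centralizer ({t} : Set G) := mem_centralizer_singleton_iff.mpr rfl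
  have htQ : e ⟨t, htmem⟩ = tQ := by
    have hc : ∀ w : Q5, e ⟨t, htmem⟩ * w = w * e ⟨t, htmem⟩ := by
      intro w
      rw [← e.apply_symm_apply w, ← map_mul, ← map_mul]
      congr 1
      exact Subtype.ext (mem_centralizer_singleton_iff.mp (e.symm w).2).symm
    refine (center_Q5 _ (hc _) (hc _)).resolve_left fun h => ?_
    have h1 : (⟨t, htmem⟩ : centralizer ({t} : Set G)) = 1 := e.injective (h.trans (map_one e).symm)
    have h2 : t = 1 := congrArg Subtype.val h1
    rw [h2, orderOf_one] at ht
    norm_num at ht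
  have htt : ψ tQ = t := by
    rw [← htQ]
    simp [hψ]
  exact ⟨⟨ψ, hinj, by rw [htt, hrange]⟩, htt⟩

namespace Marked

variable {G : Type u} [Group G] (M : Marked G)

/-- the relators of a case -/
theorem gword_rel (i : Fin 4) (hi : gword M.letters (extraRel i) = 1) {w : List ℕ}
    (h : w ∈ extraRel i :: commonRels ∨ w.reverse.map ivJ ∈ extraRel i :: commonRels) :
    gword M.letters w = 1 := by
  have hb : ∀ v ∈ extraRel i :: commonRels, gword M.letters v = 1 := by
    intro v hv
    rcases List.mem_cons.mp hv with rfl | hv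
    · exact hi
    · exact M.gword_common hv
  rcases h with h | h
  · exact hb w h
  · have h1 := hb _ h
    rwa [M.gword_rev, inv_eq_one] at h1

/-- the words of a certificate, given the extra relator -/
theorem cert_hyps (i : Fin 4) (hi : gword M.letters (extraRel i) = 1) (words : List (List ℕ)) (nr : ℕ)
    (hrelw : ∀ w ∈ words.take nr, w ∈ extraRel i :: commonRels ∨ w.reverse.map ivJ ∈ extraRel i :: commonRels)
    (hsubw : ∀ w ∈ words.drop nr, w ∈ [[0], [2], [4]]) :
    (∀ (k : ℕ) (w : List ℕ), words[k]? = some w → k < nr → gword M.letters w = 1) ∧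
      ∀ (k : ℕ) (w : List ℕ), words[k]? = some w → gword M.letters w = 1 ∨
        ∃ v, (v = [0] ∨ v = [2] ∨ v = [4]) ∧ w = v := by
  have h1 : ∀ (k : ℕ) (w : List ℕ), words[k]? = some w → k < nr → gword M.letters w = 1 := by
    intro k w hk hlt
    refine M.gword_rel i hi (hrelw w ?_)
    rw [List.mem_iff_getElem?]
    exact ⟨k, by rw [List.getElem?_take, if_pos hlt, hk]⟩
  refine ⟨h1, fun k w hk => ?_⟩
  by_cases hlt : k < nr
  · exact .inl (h1 k w hk hlt)
  · refine .inr ⟨w, ?_, rfl⟩
    have hm : w ∈ words.drop nr := by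
      rw [List.mem_iff_getElem?]
      exact ⟨k - nr, by rw [List.getElem?_drop, Nat.add_sub_cancel' (by omega), hk]⟩
    simpa using hsubw w hm

theorem gword_gen {v : List ℕ} (h : v = [0] ∨ v = [2] ∨ v = [4]) :
    gword M.letters v = M.ψ (gword lC v) :=
  M.gword_small (by rcases h with rfl | rfl | rfl <;> simp)

/-- a case with collapsing enumeration is impossible -/
theorem not_collapse (hG : Nat.card G = 175560) [IsSimpleGroup G] (i : Fin 4) {C : CertData} {N : ℕ}
    (hN : FactsChecked C.ep C.iv C.words C.nr N) (hn : 0 < C.n) (h0 : C.node 0 = 0)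
    (hrow : ∀ j < C.n, checkRow C.ep C.iv N C.L C.node C.T C.tf C.n j = true)
    (hiv : C.iv = ivJ) (hL : C.L = 8) (hn1 : C.n = 1)
    (hrelw : ∀ w ∈ C.words.take C.nr, w ∈ extraRel i :: commonRels ∨ w.reverse.map ivJ ∈ extraRel i :: commonRels)
    (hsubw : ∀ w ∈ C.words.drop C.nr, w ∈ [[0], [2], [4]]) :
    gword M.letters (extraRel i) ≠ 1 := by
  intro hi
  obtain ⟨h1, h2⟩ := M.cert_hyps i hi C.words C.nr hrelw hsubw
  have h := relIndex_le hN hn h0 hrow M.ψ.range M.letters (hiv ▸ M.letters_iv) h1 (fun k w hk => by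
    rcases h2 k w hk with e | ⟨v, hv, rfl⟩
    · rw [e]; exact one_mem _
    · rw [M.gword_gen hv]; exact ⟨_, rfl⟩)
  rw [hL, M.closure_eq_top hG, relIndex_top_right, hn1] at h
  have h3 : M.ψ.range.index = 1 := by omega
  exact M.d_not_mem_range (by rw [index_eq_one.mp h3]; exact mem_top _)

theorem extra_two (hG : Nat.card G = 175560) [IsSimpleGroup G] : gword M.letters (extraRel 2) = 1 := by
  obtain ⟨i, hi⟩ := M.exists_extra hG
  fin_cases i
  · exact absurd hi (M.not_collapse hG 0 (C := Case0.cert) Case0.facts Case0.n_pos Case0.node_zero Case0.rows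
      rfl rfl rfl (by decide +kernel) (by decide +kernel))
  · exact absurd hi (M.not_collapse hG 1 (C := Case1.cert) Case1.facts Case1.n_pos Case1.node_zero Case1.rows
      rfl rfl rfl (by decide +kernel) (by decide +kernel))
  · exact hi
  · exact absurd hi (M.not_collapse hG 3 (C := Case3.cert) Case3.facts Case3.n_pos Case3.node_zero Case3.rows
      rfl rfl rfl (by decide +kernel) (by decide +kernel))

end Marked

/-- Simple groups of order 175560 with involution centralisers `2 × A₅` are isomorphic. -/
theorem iso_of_card {G : Type u} {H : Type v} [Group G] [IsSimpleGroup G] [Group H] [IsSimpleGroup H]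
    (hG : Nat.card G = 175560) (hH : Nat.card H = 175560) (MG : Cent G) (MH : Cent H) :
    Nonempty (G ≃* H) := by
  haveI := Cent.finite_G hG
  haveI := Cent.finite_G hH
  obtain ⟨A, -⟩ := exists_marked hG MG
  obtain ⟨B, -⟩ := exists_marked hH MH
  set l : ℕ → G × H := fun x => (A.letters x, B.letters x) with hl
  have hgw : ∀ w, gword l w = (gword A.letters w, gword B.letters w) := by
    intro w
    induction w with
    | nil => rfl
    | cons a w ih => rw [gword_cons, ih, gword_cons, gword_cons]; rfl
  have hiA := A.extra_two hG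
  have hiB := B.extra_two hH
  have hrelw : ∀ w ∈ Case2.cert.words.take Case2.cert.nr,
      w ∈ extraRel 2 :: commonRels ∨ w.reverse.map ivJ ∈ extraRel 2 :: commonRels := by
    show ∀ w ∈ Case2.words.take 24, _
    decide +kernel
  have hsubw : ∀ w ∈ Case2.cert.words.drop Case2.cert.nr, w ∈ [[0], [2], [4]] := by
    show ∀ w ∈ Case2.words.drop 24, _
    decide +kernel
  obtain ⟨hA1, hA2⟩ := A.cert_hyps 2 hiA _ _ hrelw hsubw
  obtain ⟨hB1, -⟩ := B.cert_hyps 2 hiB _ _ hrelw hsubw
  set D := (A.ψ.prod B.ψ).range with hD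
  obtain ⟨hle, -⟩ := relIndex_le Case2.facts Case2.n_pos Case2.node_zero Case2.rows D l
    (show ∀ x, l (ivJ x) = (l x)⁻¹ from fun x => by
      simp only [hl, Prod.inv_mk, A.letters_iv, B.letters_iv])
    (fun k w hk hlt => by rw [hgw, hA1 k w hk hlt, hB1 k w hk hlt]; rfl)
    (fun k w hk => by
      rw [hgw]
      by_cases hlt : k < Case2.cert.nr
      · rw [hA1 k w hk hlt, hB1 k w hk hlt]; exact one_mem _
      · have hv : w = [0] ∨ w = [2] ∨ w = [4] := by
          have hm : w ∈ Case2.cert.words.drop Case2.cert.nr := by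
            rw [List.mem_iff_getElem?]
            exact ⟨k - Case2.cert.nr, by rw [List.getElem?_drop, Nat.add_sub_cancel' (by omega), hk]⟩
          simpa using hsubw w hm
        rw [A.gword_gen hv, B.gword_gen hv]
        exact ⟨_, rfl⟩)
  set K := closure {a | ∃ x < Case2.cert.L, l x = a} with hK
  have hcard : Nat.card K ≤ 175560 := by
    rw [← (D.subgroupOf K).card_mul_index]
    calc Nat.card (D.subgroupOf K) * (D.subgroupOf K).index ≤ 120 * 1463 := by
          refine Nat.mul_le_mul ?_ hle
          refine (Nat.card_le_card_of_injective (fun x : D.subgroupOf K => (⟨((x : K) : G × H), mem_subgroupOf.mp x.2⟩ : D)) ?_).trans ?_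
          · intro a b hab
            exact Subtype.ext (Subtype.ext (congrArg (fun z : D => (z : G × H)) hab))
          · rw [← card_Q5, hD]
            exact Finite.card_range_le (A.ψ.prod B.ψ)
      _ = 175560 := by norm_num
  let f : K →* G := (MonoidHom.fst G H).comp K.subtype
  let g : K →* H := (MonoidHom.snd G H).comp K.subtype
  have hf : Function.Surjective f := by
    rw [← MonoidHom.range_eq_top, ← top_le_iff, ← A.closure_eq_top hG, closure_le]
    rintro _ ⟨x, hx, rfl⟩
    exact ⟨⟨l x, subset_closure ⟨x, hx, rfl⟩⟩, rfl⟩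
  have hg : Function.Surjective g := by
    rw [← MonoidHom.range_eq_top, ← top_le_iff, ← B.closure_eq_top hH, closure_le]
    rintro _ ⟨x, hx, rfl⟩
    exact ⟨⟨l x, subset_closure ⟨x, hx, rfl⟩⟩, rfl⟩
  have hcf : Nat.card K = Nat.card G :=
    le_antisymm (hG ▸ hcard) (Nat.card_le_card_of_surjective f hf)
  have hcg : Nat.card K = Nat.card H :=
    le_antisymm (hH ▸ hcard) (Nat.card_le_card_of_surjective g hg)
  exact ⟨(MulEquiv.ofBijective f ((Nat.bijective_iff_surjective_and_card f).mpr ⟨hf, hcf⟩)).symm.trans
    (MulEquiv.ofBijective g ((Nat.bijective_iff_surjective_and_card g).mpr ⟨hg, hcg⟩))⟩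

end CfsgLib.JankoUnique
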