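import Cfsg.Agent.CosetEnum.Upper
import Mathlib

/-!
# The model group `2 × A₅` and its combinatorics, for the uniqueness of J₁

Labels `Fin 8` name the elements of a Sylow 2-subgroup `2 × V`, bit 0 being the central involution.
-/

set_option autoImplicit false
set_option synthInstance.maxSize 100000
set_option synthInstance.maxHeartbeats 400000

namespace CfsgLib.JankoUnique

open Equiv CfsgLib.CosetEnum

/-- the model of the centraliser -/
abbrev Q5 : Type := Multiplicative (ZMod 2) × alternatingGroup (Fin 5)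

/-- an even permutation of the double transposition type -/
def aA : alternatingGroup (Fin 5) :=
  ⟨swap 0 1 * swap 2 3, by rw [Perm.mem_alternatingGroup]; decide +kernel⟩

/-- a three-cycle -/
def zA : alternatingGroup (Fin 5) :=
  ⟨swap 0 4 * swap 4 2, by rw [Perm.mem_alternatingGroup]; decide +kernel⟩

/-- the central involution -/
def tQ : Q5 := (Multiplicative.ofAdd 1, 1)

/-- letters of the centraliser -/
def lC (x : ℕ) : Q5 :=
  if x < 2 then tQ else if x < 4 then (1, aA) else if x = 4 then (1, zA)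
  else if x = 5 then (1, zA⁻¹) else 1

/-- an element of order 3 normalising the four-group -/
def bQ : Q5 := gword lC [4, 2, 5, 2, 5]

/-- an element of order 5 -/
def xQ : Q5 := gword lC [2, 4]

/-- an involution inverting `xQ` -/
def uQ : Q5 := gword lC [4, 2, 4, 2, 5, 2, 5]

/-- the automorphism of `A₅` from the transposition of 2 and 3 -/
def tauEquiv : alternatingGroup (Fin 5) ≃* alternatingGroup (Fin 5) :=
  MulAut.conjNormal (swap (2 : Fin 5) 3)

/-- the matching automorphism of the model -/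
def sigmaQ : Q5 ≃* Q5 := MulEquiv.prodCongr (MulEquiv.refl _) tauEquiv

/-- the four-group elements -/
def vA : Fin 4 → alternatingGroup (Fin 5) :=
  ![1, aA,
    ⟨swap 0 2 * swap 1 3, by rw [Perm.mem_alternatingGroup]; decide +kernel⟩,
    ⟨swap 0 3 * swap 1 2, by rw [Perm.mem_alternatingGroup]; decide +kernel⟩]

/-- the Sylow 2-subgroup, by labels -/
def sl (k : Fin 8) : Q5 :=
  (Multiplicative.ofAdd ((k : ℕ) : ZMod 2), vA ⟨(k : ℕ) / 2, by omega⟩)

/-- multiplication of labels -/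
def lmul (i j : Fin 8) : Fin 8 := ⟨((i : ℕ) ^^^ (j : ℕ)) % 8, Nat.mod_lt _ (by norm_num)⟩

/-- the action of `bQ` on labels -/
def bF : Fin 8 → Fin 8 := ![0, 1, 6, 7, 2, 3, 4, 5]

/-- the action of the element of order 7 on labels -/
def piF : Fin 8 → Fin 8 := ![0, 2, 6, 4, 5, 7, 3, 1]

/-- the action of the outer automorphism on labels -/
def sF : Fin 8 → Fin 8 := ![0, 1, 2, 3, 6, 7, 4, 5]

/-- the linear map with the given images of a basis -/
def mkF (p q r : Fin 8) (k : Fin 8) : Fin 8 :=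
  lmul (lmul (if (k : ℕ) % 2 = 1 then p else 0) (if (k : ℕ) / 2 % 2 = 1 then q else 0))
    (if (k : ℕ) / 4 = 1 then r else 0)

theorem sl_mul : ∀ i j : Fin 8, sl i * sl j = sl (lmul i j) := by decide +kernel

theorem sl_injective : Function.Injective sl := by decide +kernel

theorem sl_zero : sl 0 = 1 := by decide +kernel

theorem sl_one : sl 1 = tQ := by decide +kernel

theorem lmul_self : ∀ i : Fin 8, lmul i i = 0 := by decide +kernel

theorem sl_inv (i : Fin 8) : (sl i)⁻¹ = sl i :=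
  inv_eq_of_mul_eq_one_right (by rw [sl_mul, lmul_self, sl_zero])

/-- the Sylow 2-subgroup of the model -/
def subS : Subgroup Q5 where
  carrier := Set.range sl
  one_mem' := ⟨0, sl_zero⟩
  mul_mem' := by rintro _ _ ⟨i, rfl⟩ ⟨j, rfl⟩; exact ⟨_, (sl_mul i j).symm⟩
  inv_mem' := by rintro _ ⟨i, rfl⟩; exact ⟨i, (sl_inv i).symm⟩

theorem card_subS : Nat.card subS = 8 := by
  show Nat.card (Set.range sl) = 8
  rw [Nat.card_range_of_injective sl_injective, Nat.card_eq_fintype_card, Fintype.card_fin]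

theorem center_Q5 : ∀ q : Q5, q * (1, aA) = (1, aA) * q → q * (1, zA) = (1, zA) * q → q = 1 ∨ q = tQ := by
  decide +kernel

theorem centralizer_subS : ∀ q : Q5, q * sl 2 = sl 2 * q → q * sl 4 = sl 4 * q → ∃ k, q = sl k := by
  decide +kernel

theorem bQ_pow : bQ ^ 3 = 1 ∧ bQ ≠ 1 ∧ orderOf bQ ≠ 2 ∧ tQ ^ 2 = 1 ∧ xQ ^ 5 = 1 ∧ xQ ≠ 1 ∧ uQ ^ 2 = 1 := by
  refine ⟨by decide +kernel, by decide +kernel, ?_, by decide +kernel, by decide +kernel, by decide +kernel, by decide +kernel⟩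
  intro h
  have h1 := pow_orderOf_eq_one bQ
  rw [h] at h1
  revert h1
  decide +kernel

theorem bQ_conj : ∀ k, bQ * sl k * bQ⁻¹ = sl (bF k) := by decide +kernel

theorem sigmaQ_sl : ∀ k, sigmaQ (sl k) = sl (sF k) := by decide +kernel

theorem sigmaQ_bQ : sigmaQ bQ = bQ⁻¹ ∧ sigmaQ tQ = tQ := by decide +kernel

theorem uQ_facts : uQ * xQ * uQ⁻¹ = xQ⁻¹ ∧ uQ * tQ = tQ * uQ := by decide +kernel

theorem centralizer_xQ : ∀ q : Q5, q * xQ = xQ * q → q ^ 10 = 1 ∧ (q ^ 3 = 1 → q = 1) := by decide +kernel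

theorem centralizer_xQ_two : ∀ q : Q5, q * xQ = xQ * q → q ^ 2 = 1 → q = 1 ∨ q = tQ := by decide +kernel

/-- A permutation of the labels that can be induced by an element of odd order. -/
def OddF (f : Fin 8 → Fin 8) : Prop := (∀ k, f (f (f (f k))) = k) → ∀ k, f k = k

instance : DecidablePred OddF := fun f => by unfold OddF; infer_instance

theorem exists_seven : ∀ p q r : Fin 8, Function.Injective (mkF p q r) → p ≠ 1 →
    OddF (mkF p q r) → OddF (mkF p q r ∘ bF) → OddF (mkF p q r ∘ bF ∘ bF) →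
    (mkF p q r)^[7] = id ∨ (mkF p q r ∘ bF)^[7] = id ∨ (mkF p q r ∘ bF ∘ bF)^[7] = id := by
  decide +kernel

theorem normalised_seven : ∀ p q r : Fin 8, Function.Injective (mkF p q r) →
    (mkF p q r)^[7] = id → (∃ k, mkF p q r k ≠ k) →
    OddF (mkF p q r ∘ bF) → OddF (mkF p q r ∘ bF ∘ bF) →
    OddF (mkF p q r ∘ mkF p q r ∘ bF) → OddF (mkF p q r ∘ mkF p q r ∘ bF ∘ bF) →
    bF ∘ mkF p q r ∘ bF ∘ bF = (mkF p q r)^[2] ∨ bF ∘ mkF p q r ∘ bF ∘ bF = (mkF p q r)^[4] := by
  decide +kernel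

theorem solve_shift : ∀ p q r : Fin 8, Function.Injective (mkF p q r) →
    (mkF p q r)^[7] = id → (∃ k, mkF p q r k ≠ k) → ∀ s, (∃ j, lmul j ((mkF p q r)^[2] j) = s) ∧
      ∃ j, lmul j ((mkF p q r)^[4] j) = s := by
  decide +kernel

theorem eq_pow_piF : ∀ p q r : Fin 8, Function.Injective (mkF p q r) →
    (mkF p q r)^[7] = id → (∃ k, mkF p q r k ≠ k) →
    bF ∘ mkF p q r ∘ bF ∘ bF = (mkF p q r)^[2] →
    ∃ i : Fin 7, (i : ℕ) ≠ 0 ∧ (mkF p q r)^[i] = piF := by
  decide +kernel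

theorem fixed_seven : ∀ p q r : Fin 8, Function.Injective (mkF p q r) →
    (mkF p q r)^[7] = id → (∃ k, mkF p q r k ≠ k) → ∀ k, mkF p q r k = k → k = 0 := by
  decide +kernel

theorem mkF_basis : mkF 1 2 4 = id ∧ (∀ i j : Fin 8, lmul i j = 0 → i = j) ∧
    (∀ k : Fin 8, k ≠ 0 → ∃ i : Fin 7, piF^[i] 1 = k) ∧ bF ∘ bF ∘ bF = id ∧ sF ∘ sF = id ∧
    piF^[7] = id ∧ sl (bF 1) = tQ := by
  decide +kernel

theorem exists_fixed_affine : ∀ r : Fin 8, (∀ s, lmul (bF (lmul (bF (lmul (bF s) r)) r)) r = s) →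
    ∃ s, lmul (bF s) r = s := by
  decide +kernel

end CfsgLib.JankoUnique
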