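import Cfsg.Agent.JankoUnique.Five

/-!
# The relations satisfied by generators of a group with the local data of J₁
-/

set_option autoImplicit false
set_option linter.style.haveILetI false
set_option synthInstance.maxSize 100000
set_option synthInstance.maxHeartbeats 400000

namespace CfsgLib.JankoUnique

open Subgroup CfsgLib.SylowToolkit CfsgLib.CosetEnum

universe u

/-- formal inverse of letters -/
def ivJ : ℕ → ℕ := fun x => x ^^^ 1

/-- the relators not involving the commutation -/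
def commonRels : List (List ℕ) :=
  [[0, 0], [2, 2], [4, 4, 4], [2, 4, 2, 4, 2, 4, 2, 4, 2, 4], [0, 2, 0, 2], [0, 4, 0, 5], [6, 6, 6, 6, 6, 6, 6],
    [4, 2, 5, 2, 5, 6, 4, 3, 4, 3, 5, 7, 7], [6, 0, 7, 3], [6, 2, 7, 5, 3, 4, 3, 5, 3, 4, 3, 5],
    [6, 2, 4, 2, 5, 2, 4, 2, 5, 2, 4, 7, 5, 3, 4, 3, 5, 3, 4, 3, 5, 3, 1]]

/-- the word of a conjugate `g w g⁻¹` -/
def conjWord (g w : List ℕ) : List ℕ := g ++ w ++ g.reverse.map ivJ

/-- the commutator of `xQ` with a word -/
def relWord (y : List ℕ) : List ℕ :=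
  [2, 4] ++ y ++ ([2, 4] : List ℕ).reverse.map ivJ ++ y.reverse.map ivJ

/-- the four possibilities for the extra relator -/
def extraRel (i : Fin 4) : List ℕ :=
  relWord (![conjWord [3, 4, 7, 7, 7, 7, 7] [4], conjWord [3, 4, 7, 7, 7, 7, 7] [2, 4, 2],
    conjWord [3, 4, 7] [4, 2, 4, 2, 5, 2, 4], conjWord [3, 4, 7] [4, 2, 5, 2, 4, 2, 4]] i)

theorem gword_append {G : Type*} [Group G] (g : ℕ → G) (v w : List ℕ) :
    gword g (v ++ w) = gword g v * gword g w := by simp [gword]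

theorem q5_facts :
    gword lC [3, 4] * sl (piF^[2] 1) * (gword lC [3, 4])⁻¹ = uQ ∧
    gword lC [3, 4] * sl (piF^[6] 1) * (gword lC [3, 4])⁻¹ = tQ * uQ ∧
    (gword lC [3, 4])⁻¹ * tQ * gword lC [3, 4] = tQ ∧
    gword lC [2, 4] = xQ ∧
    gword lC [0] = tQ ∧ gword lC [4, 2, 5, 2, 5] = bQ := by
  decide +kernel

theorem common_facts :
    ([[0, 0], [2, 2], [4, 4, 4], [2, 4, 2, 4, 2, 4, 2, 4, 2, 4], [0, 2, 0, 2], [0, 4, 0, 5]] : List (List ℕ)).all
      (fun w => decide (gword lC w = 1)) = true ∧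
    gword lC [4, 3, 4, 3, 5] = bQ⁻¹ ∧
    gword lC [0] = sl 1 ∧ gword lC [2] = sl 2 ∧ gword lC [2, 4, 2, 5, 2, 4, 2, 5, 2, 4] = sl 4 ∧
    sl (piF 1) * gword lC [3] = 1 ∧
    sl (piF 2) * gword lC [5, 3, 4, 3, 5, 3, 4, 3, 5] = 1 ∧
    sl (piF 4) * gword lC [5, 3, 4, 3, 5, 3, 4, 3, 5, 3, 1] = 1 := by
  decide +kernel

theorem inverted_cases : ∀ q : Q5, q ^ 3 = 1 → q ≠ 1 →
    (sl (piF^[5] 1) * q * (sl (piF^[5] 1))⁻¹ = q⁻¹ →
      q = gword lC [4] ∨ q⁻¹ = gword lC [4] ∨ q = gword lC [2, 4, 2] ∨ q⁻¹ = gword lC [2, 4, 2]) ∧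
    (sl (piF^[1] 1) * q * (sl (piF^[1] 1))⁻¹ = q⁻¹ →
      q = gword lC [4, 2, 4, 2, 5, 2, 4] ∨ q⁻¹ = gword lC [4, 2, 4, 2, 5, 2, 4] ∨
      q = gword lC [4, 2, 5, 2, 4, 2, 4] ∨ q⁻¹ = gword lC [4, 2, 5, 2, 4, 2, 4]) := by
  decide +kernel

namespace Marked

variable {G : Type u} [Group G] (M : Marked G)

/-- the values of the letters -/
def letters (x : ℕ) : G := if x < 6 then M.ψ (lC x) else if x = 6 then M.d else if x = 7 then M.d⁻¹ else 1

theorem letters_iv (x : ℕ) : M.letters (ivJ x) = (M.letters x)⁻¹ := by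
  rcases Nat.lt_or_ge x 8 with h | h
  · have hl : ∀ x < 6, ivJ x < 6 ∧ lC (ivJ x) = (lC x)⁻¹ := by decide +kernel
    rcases Nat.lt_or_ge x 6 with h6 | h6
    · obtain ⟨h1, h2⟩ := hl x h6
      rw [letters, if_pos h1, letters, if_pos h6, h2, map_inv]
    · obtain rfl | rfl : x = 6 ∨ x = 7 := by omega
      · rw [show ivJ 6 = 7 from rfl]; simp [letters]
      · rw [show ivJ 7 = 6 from rfl]; simp [letters]
  · have h2 : 8 ≤ ivJ x := by
      have e1 : (x ^^^ 1) >>> 3 = x >>> 3 := by rw [Nat.shiftRight_xor_distrib]; simp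
      show 8 ≤ x ^^^ 1
      rw [Nat.shiftRight_eq_div_pow, Nat.shiftRight_eq_div_pow] at e1
      omega
    simp only [letters]
    rw [if_neg (by omega), if_neg (by omega), if_neg (by omega), if_neg (by omega), if_neg (by omega),
      if_neg (by omega), inv_one]

theorem gword_small {w : List ℕ} (h : ∀ x ∈ w, x < 6) : gword M.letters w = M.ψ (gword lC w) := by
  induction w with
  | nil => simp [gword_nil]
  | cons a w ih =>
    rw [gword_cons, gword_cons, map_mul, ih fun x hx => h x (List.mem_cons_of_mem a hx)]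
    congr 1
    rw [letters, if_pos (h a List.mem_cons_self)]

theorem gword_rev (w : List ℕ) : gword M.letters (w.reverse.map ivJ) = (gword M.letters w)⁻¹ :=
  gword_inverse _ _ M.letters_iv w

theorem letters_six : M.letters 6 = M.d ∧ M.letters 7 = M.d⁻¹ := by simp [letters]

theorem gword_common {w : List ℕ} (hw : w ∈ commonRels) : gword M.letters w = 1 := by
  have hs : ∀ w, w ∈ ([[0, 0], [2, 2], [4, 4, 4], [2, 4, 2, 4, 2, 4, 2, 4, 2, 4], [0, 2, 0, 2], [0, 4, 0, 5]] : List (List ℕ)) →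
      gword M.letters w = 1 := by
    intro w hw
    rw [M.gword_small (fun x hx => by
      revert x
      revert w
      decide), decide_eq_true_eq.mp (List.all_eq_true.mp common_facts.1 w hw), map_one]
  have hd : ∀ k : Fin 8, ∀ v w : List ℕ, (∀ x ∈ v, x < 6) → (∀ x ∈ w, x < 6) → gword lC v = sl k →
      sl (piF k) * gword lC w = 1 → gword M.letters (6 :: (v ++ 7 :: w)) = 1 := by
    intro k v w hv hw h1 h2
    rw [gword_cons, gword_append, gword_cons, M.letters_six.1, M.letters_six.2, M.gword_small hv,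
      M.gword_small hw, h1, ← mul_assoc, ← mul_assoc, M.acts_d, ← map_mul, h2, map_one]
  simp only [commonRels, List.mem_cons, List.not_mem_nil, or_false] at hw
  rcases hw with rfl | rfl | rfl | rfl | rfl | rfl | rfl | rfl | rfl | rfl | rfl
  iterate 6 exact hs _ (by simp)
  · simp only [gword_cons, gword_nil, M.letters_six.1, mul_one]
    rw [← M.d_pow]; simp [pow_succ, mul_assoc]
  · rw [show ([4, 2, 5, 2, 5, 6, 4, 3, 4, 3, 5, 7, 7] : List ℕ) = [4, 2, 5, 2, 5] ++ ([6] ++ ([4, 3, 4, 3, 5] ++ [7, 7])) from rfl,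
      gword_append, gword_append, gword_append, M.gword_small (by decide), M.gword_small (w := [4, 3, 4, 3, 5]) (by decide),
      q5_facts.2.2.2.2.2, common_facts.2.1, map_inv]
    simp only [gword_cons, gword_nil, M.letters_six.1, M.letters_six.2, mul_one]
    rw [← mul_assoc, ← mul_assoc, M.conj_b, pow_two]
    group
  · exact hd 1 [0] [3] (by decide) (by decide) common_facts.2.2.1 common_facts.2.2.2.2.2.1
  · exact hd 2 [2] _ (by decide) (by decide) common_facts.2.2.2.1 common_facts.2.2.2.2.2.2.1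
  · exact hd 4 [2, 4, 2, 5, 2, 4, 2, 5, 2, 4] _ (by decide) (by decide) common_facts.2.2.2.2.1
      common_facts.2.2.2.2.2.2.2

variable (hG : Nat.card G = 175560) [IsSimpleGroup G]

include hG

/-- an element of order 3 centralising `xQ` and inverted by `t` -/
theorem exists_y : ∃ y : G, orderOf y = 3 ∧ M.ψ xQ * y = y * M.ψ xQ ∧
    M.ψ tQ * y * (M.ψ tQ)⁻¹ = y⁻¹ ∧
    (M.ψ uQ * y = y * M.ψ uQ ∨ M.ψ (tQ * uQ) * y = y * M.ψ (tQ * uQ)) := by
  classical
  haveI := Cent.finite_G hG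
  haveI : Fact (Nat.Prime 3) := ⟨by norm_num⟩
  haveI : Fact (Nat.Prime 5) := ⟨by norm_num⟩
  set x := M.ψ xQ with hx
  set C := centralizer ({x} : Set G) with hC
  have hcard : Nat.card C = 3 ^ 1 * 10 := by rw [hC, M.card_centralizer_x hG]; norm_num
  obtain ⟨R⟩ := (inferInstance : Nonempty (Sylow 3 C))
  have hxC : x ∈ C := mem_centralizer_singleton_iff.mpr rfl
  have hR := card_sylow_subgroup_eq hcard (by norm_num) R
  have h1 : Nat.card (Sylow 3 C) = 1 := by
    have h2 := card_normalizer_mul R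
    have hxN : (⟨x, hxC⟩ : C) ∈ normalizer ((R : Subgroup C) : Set C) := by
      rw [mem_normalizer_iff]
      intro w
      have : (⟨x, hxC⟩ : C) * w * (⟨x, hxC⟩ : C)⁻¹ = w := by
        rw [mul_inv_eq_iff_eq_mul]
        exact Subtype.ext (mem_centralizer_singleton_iff.mp w.2).symm
      rw [this]
    have h5 : 5 ∣ Nat.card (normalizer ((R : Subgroup C) : Set C)) := by
      have := orderOf_dvd_natCard (⟨_, hxN⟩ : normalizer ((R : Subgroup C) : Set C))
      rwa [Subgroup.orderOf_mk, Subgroup.orderOf_mk, hx, orderOf_injective _ M.inj,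
        orderOf_eq_prime (p := 5) bQ_pow.2.2.2.2.1 bQ_pow.2.2.2.2.2.1] at this
    have h3 : 3 ∣ Nat.card (normalizer ((R : Subgroup C) : Set C)) :=
      (by rw [hR, pow_one] : 3 ∣ Nat.card (R : Subgroup C)).trans (card_dvd_of_le le_normalizer)
    have hmod : Nat.card (Sylow 3 C) % 3 = 1 := card_sylow_mod
    obtain ⟨w, hw⟩ : 15 ∣ Nat.card (normalizer ((R : Subgroup C) : Set C)) :=
      Nat.Coprime.mul_dvd_of_dvd_of_dvd (m := 3) (n := 5) (by norm_num) h3 h5
    rw [hw, hcard] at h2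
    have h4 : w * Nat.card (Sylow 3 C) = 2 := Nat.eq_of_mul_eq_mul_left (show 0 < 15 by norm_num) (by
      rw [← mul_assoc, h2]; norm_num)
    have h6 := Nat.le_of_dvd (by norm_num) (Dvd.intro_left _ h4)
    omega
  have hRn := sylow_normal_of_card_eq_one h1 R
  obtain ⟨⟨⟨y, hyC⟩, hyR⟩, hy⟩ := exists_prime_orderOf_dvd_card' (G := (R : Subgroup C)) 3 (by rw [hR, pow_one])
  rw [Subgroup.orderOf_mk, Subgroup.orderOf_mk] at hy
  have hxy : x * y = y * x := (mem_centralizer_singleton_iff.mp hyC).symm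
  haveI : Subsingleton (Sylow 3 C) := (Nat.card_eq_one_iff_unique.mp h1).1
  have key : ∀ q : Q5, (q * xQ * q⁻¹ = xQ ∨ q * xQ * q⁻¹ = xQ⁻¹) →
      M.ψ q * y * (M.ψ q)⁻¹ = y ∨ M.ψ q * y * (M.ψ q)⁻¹ = y⁻¹ := by
    intro q hq
    have hmem : M.ψ q * y * (M.ψ q)⁻¹ ∈ C := by
      refine mem_centralizer_singleton_iff.mpr ?_
      have hc : ∀ x' : G, x' = x ∨ x' = x⁻¹ → x' * y = y * x' := by
        rintro x' (rfl | rfl)
        · exact hxy
        · exact ((Commute.inv_left (show Commute x y from hxy))).eq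
      have h2 : (M.ψ q)⁻¹ * x * M.ψ q = x ∨ (M.ψ q)⁻¹ * x * M.ψ q = x⁻¹ := by
        rcases hq with h | h
        · left
          have e : M.ψ q * x * (M.ψ q)⁻¹ = x := by rw [hx, ← map_inv, ← map_mul, ← map_mul, h]
          conv_lhs => rw [← e]
          group
        · right
          have e : M.ψ q * x * (M.ψ q)⁻¹ = x⁻¹ := by rw [hx, ← map_inv, ← map_mul, ← map_mul, h, map_inv]
          have e' : (M.ψ q * x * (M.ψ q)⁻¹)⁻¹ = x := by rw [e, inv_inv]
          conv_lhs => rw [← e']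
          group
      have h3 := hc _ h2
      calc M.ψ q * y * (M.ψ q)⁻¹ * x = M.ψ q * (y * ((M.ψ q)⁻¹ * x * M.ψ q)) * (M.ψ q)⁻¹ := by group
        _ = M.ψ q * (((M.ψ q)⁻¹ * x * M.ψ q) * y) * (M.ψ q)⁻¹ := by rw [h3]
        _ = x * (M.ψ q * y * (M.ψ q)⁻¹) := by group
    have ho : orderOf (M.ψ q * y * (M.ψ q)⁻¹) = 3 := by
      rw [← MulAut.conj_apply, MulEquiv.orderOf_eq, hy]
    obtain ⟨R', hR'⟩ := (IsPGroup.of_card (p := 3) (n := 1) (show Nat.card (zpowers (⟨_, hmem⟩ : C)) = 3 ^ 1 by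
      rw [Nat.card_zpowers, Subgroup.orderOf_mk, ho, pow_one])).exists_le_sylow
    rw [Subsingleton.elim R' R] at hR'
    have hzy : zpowers (⟨y, hyC⟩ : C) = (R : Subgroup C) :=
      eq_of_le_of_card_ge (zpowers_le.mpr hyR) (by rw [hR, Nat.card_zpowers, Subgroup.orderOf_mk, hy, pow_one])
    have hm := hR' (mem_zpowers _)
    rw [← hzy] at hm
    obtain ⟨i, hi, he⟩ := Finset.mem_image.mp ((isOfFinOrder_of_finite _).mem_zpowers_iff_mem_range_orderOf.mp hm)
    rw [Finset.mem_range, Subgroup.orderOf_mk, hy] at hi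
    replace he : M.ψ q * y * (M.ψ q)⁻¹ = y ^ i := (congrArg Subtype.val he).symm
    have hi' : i = 0 ∨ i = 1 ∨ i = 2 := by omega
    rcases hi' with rfl | rfl | rfl
    · rw [he, pow_zero, orderOf_one] at ho; norm_num at ho
    · exact .inl (he.trans (pow_one y))
    · refine .inr (he.trans (eq_inv_of_mul_eq_one_left ?_))
      rw [← pow_succ, show 2 + 1 = orderOf y from hy.symm, pow_orderOf_eq_one]
  have ht : M.ψ tQ * y * (M.ψ tQ)⁻¹ = y⁻¹ := by
    refine (key tQ (.inl (by decide +kernel))).resolve_left fun h => ?_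
    obtain ⟨q, hq⟩ := M.toCent.mem_centralizer_iff'.mp (mul_inv_eq_iff_eq_mul.mp h).symm
    have h2 : q * xQ = xQ * q := M.inj (by rw [map_mul, map_mul, ← hq]; exact hxy.symm)
    have h3 : q = 1 := (centralizer_xQ q h2).2 (M.inj (by
      rw [map_pow, ← hq, map_one, ← hy, pow_orderOf_eq_one]))
    rw [hq, h3, map_one, orderOf_one] at hy
    norm_num at hy
  refine ⟨y, hy, hxy, ht, ?_⟩
  rcases key uQ (.inr uQ_facts.1) with h | h
  · exact .inl (mul_inv_eq_iff_eq_mul.mp h)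
  · refine .inr (mul_inv_eq_iff_eq_mul.mp ?_)
    rw [map_mul]
    calc M.ψ tQ * M.ψ uQ * y * (M.ψ tQ * M.ψ uQ)⁻¹
        = M.ψ tQ * (M.ψ uQ * y * (M.ψ uQ)⁻¹) * (M.ψ tQ)⁻¹ := by group
      _ = (M.ψ tQ * y * (M.ψ tQ)⁻¹)⁻¹ := by rw [h]; group
      _ = y := by rw [ht, inv_inv]

/-- one of the four extra relators holds -/
theorem exists_extra : ∃ i : Fin 4, gword M.letters (extraRel i) = 1 := by
  obtain ⟨y, hy, hxy, hty, hu⟩ := M.exists_y hG
  have hrel : ∀ g w : List ℕ, gword M.letters (conjWord g w) = y ∨ gword M.letters (conjWord g w) = y⁻¹ →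
      gword M.letters (relWord (conjWord g w)) = 1 := by
    intro g w h
    have hx : gword M.letters [2, 4] = M.ψ xQ := by
      rw [M.gword_small (by decide), q5_facts.2.2.2.1]
    rw [relWord, gword_append, gword_append, gword_append, M.gword_rev, M.gword_rev, hx]
    have hc : Commute (M.ψ xQ) (gword M.letters (conjWord g w)) := by
      rcases h with e | e <;> rw [e]
      · exact hxy
      · exact (show Commute (M.ψ xQ) y from hxy).inv_right
    rw [hc.eq]; group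
  have step : ∀ (k : ℕ) (u' : Q5) (g : List ℕ), k ≤ 7 → gword M.letters g = M.ψ (gword lC [3, 4]) * (M.d ^ k)⁻¹ →
      gword lC [3, 4] * sl (piF^[7 - k] 1) * (gword lC [3, 4])⁻¹ = u' → M.ψ u' * y = y * M.ψ u' →
      ∃ q : Q5, q ^ 3 = 1 ∧ q ≠ 1 ∧ sl (piF^[k] 1) * q * (sl (piF^[k] 1))⁻¹ = q⁻¹ ∧
        y = gword M.letters g * M.ψ q * (gword M.letters g)⁻¹ := by
    intro k u' g hk hg hu' hc
    set γ := gword M.letters g
    have hA : ∀ i, M.d ^ i * M.ψ tQ * (M.d ^ i)⁻¹ = M.ψ (sl (piF^[i] 1)) := fun i => by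
      have := (show M.toCent.Acts M.d piF from M.acts_d).pow i 1
      rwa [sl_one] at this
    have hdinv : (M.d ^ k)⁻¹ = M.d ^ (7 - k) := inv_eq_of_mul_eq_one_right (by
      rw [← pow_add, Nat.add_sub_cancel' hk, M.d_pow])
    have hgu : γ * M.ψ tQ * γ⁻¹ = M.ψ u' := by
      rw [hg, hdinv, mul_inv_rev, ← hu', map_mul, map_mul, map_inv, ← hA (7 - k)]
      group
    have hct : (γ⁻¹ * y * γ) * M.ψ tQ = M.ψ tQ * (γ⁻¹ * y * γ) := by
      calc (γ⁻¹ * y * γ) * M.ψ tQ = γ⁻¹ * (y * (γ * M.ψ tQ * γ⁻¹)) * γ := by group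
        _ = γ⁻¹ * ((γ * M.ψ tQ * γ⁻¹) * y) * γ := by rw [hgu, hc]
        _ = _ := by group
    obtain ⟨q, hq⟩ := M.toCent.mem_centralizer_iff'.mp hct
    have hyq : y = γ * M.ψ q * γ⁻¹ := by rw [← hq]; group
    refine ⟨q, M.inj ?_, ?_, M.inj ?_, hyq⟩
    · rw [map_pow, ← hq, map_one]
      have h7 := conj_pow (i := 3) (a := γ⁻¹) (b := y)
      rw [inv_inv] at h7
      rw [h7, show (3 : ℕ) = orderOf y from hy.symm, pow_orderOf_eq_one, mul_one, inv_mul_cancel]
    · rintro rfl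
      rw [hyq, map_one, mul_one, mul_inv_cancel, orderOf_one] at hy
      norm_num at hy
    · have ht' : γ⁻¹ * M.ψ tQ * γ = M.ψ (sl (piF^[k] 1)) := by
        rw [← hA k, hg, mul_inv_rev, inv_inv]
        conv_rhs => rw [← q5_facts.2.2.1, map_mul, map_mul, map_inv]
        group
      rw [map_mul, map_mul, map_inv, map_inv, ← ht', ← hq]
      calc _ = γ⁻¹ * (M.ψ tQ * y * (M.ψ tQ)⁻¹) * γ := by group
        _ = _ := by rw [hty]; group
  have fin : ∀ (g w : List ℕ) (q : Q5), (∀ x ∈ w, x < 6) → y = gword M.letters g * M.ψ q * (gword M.letters g)⁻¹ →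
      q = gword lC w ∨ q⁻¹ = gword lC w → gword M.letters (relWord (conjWord g w)) = 1 := by
    intro g w q hw hyq h
    refine hrel g w ?_
    rw [conjWord, gword_append, gword_append, M.gword_rev, M.gword_small hw]
    rcases h with e | e <;> rw [← e]
    · exact .inl hyq.symm
    · refine .inr ?_; rw [hyq, map_inv]; group
  rcases hu with hu | hu
  · obtain ⟨q, h3, h1, hinv, hyq⟩ := step 5 uQ [3, 4, 7, 7, 7, 7, 7] (by norm_num) (by
      rw [show ([3, 4, 7, 7, 7, 7, 7] : List ℕ) = [3, 4] ++ [7, 7, 7, 7, 7] from rfl, gword_append,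
        M.gword_small (by decide)]
      simp only [gword_cons, gword_nil, M.letters_six.2, mul_one]
      group) q5_facts.1 hu
    rcases (inverted_cases q h3 h1).1 hinv with e | e | e | e
    · exact ⟨0, fin _ _ q (by decide) hyq (.inl e)⟩
    · exact ⟨0, fin _ _ q (by decide) hyq (.inr e)⟩
    · exact ⟨1, fin _ _ q (by decide) hyq (.inl e)⟩
    · exact ⟨1, fin _ _ q (by decide) hyq (.inr e)⟩
  · obtain ⟨q, h3, h1, hinv, hyq⟩ := step 1 (tQ * uQ) [3, 4, 7] (by norm_num) (by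
      rw [show ([3, 4, 7] : List ℕ) = [3, 4] ++ [7] from rfl, gword_append, M.gword_small (by decide)]
      simp only [gword_cons, gword_nil, M.letters_six.2, mul_one]
      group) q5_facts.2.1 hu
    rcases (inverted_cases q h3 h1).2 hinv with e | e | e | e
    · exact ⟨2, fin _ _ q (by decide) hyq (.inl e)⟩
    · exact ⟨2, fin _ _ q (by decide) hyq (.inr e)⟩
    · exact ⟨3, fin _ _ q (by decide) hyq (.inl e)⟩
    · exact ⟨3, fin _ _ q (by decide) hyq (.inr e)⟩

end Marked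

end CfsgLib.JankoUnique
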